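import Groth.Agent.EtDerLib.MinusOne
import Groth.Agent.BigSiteLib.EtDescSec.LocEq
import Mathlib.AlgebraicGeometry.Morphisms.QuasiFinite

/-! # Clopen sets and sections of constant sheaves of sets -/

set_option autoImplicit false
set_option linter.style.haveILetI false
set_option backward.isDefEq.respectTransparency.types false

universe u

open CategoryTheory CategoryTheory.Limits AlgebraicGeometry Opposite TopologicalSpace

noncomputable section

namespace Groth.Agent.EtDerLib.ZeroAcyc

open BigSiteLib.DescSec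

variable {S T : Scheme.{u}}

/-- Clopen sets descend along all locally quasi-finite base changes. -/
def ClopenDesc (g : T ⟶ S) : Prop :=
  ∀ ⦃T' S' : Scheme.{u}⦄ (i : S' ⟶ S) (p : T' ⟶ T) (q : T' ⟶ S') [LocallyQuasiFinite i] [LocallyOfFiniteType i],
    IsPullback p q g i → ∀ C : Set T', IsClopen C → ∃ D : Set S', IsClopen D ∧ q.base ⁻¹' D = C

theorem ClopenDesc.of_canonical {g : T ⟶ S}
    (h : ∀ (S' : Scheme.{u}) (i : S' ⟶ S) [LocallyQuasiFinite i] [LocallyOfFiniteType i]
      (C : Set ↥(pullback g i)), IsClopen C → ∃ D : Set S', IsClopen D ∧ (pullback.snd g i).base ⁻¹' D = C) :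
    ClopenDesc g := by
  intro T' S' i p q _ _ sq C hC
  obtain ⟨D, hD, hDC⟩ := h S' i (sq.isoPullback.inv.base ⁻¹' C) (hC.preimage sq.isoPullback.inv.continuous)
  refine ⟨D, hD, Set.ext fun z => ?_⟩
  have h1 : q = sq.isoPullback.hom ≫ pullback.snd g i := sq.isoPullback_hom_snd.symm
  show q.base z ∈ D ↔ _
  rw [h1, Scheme.Hom.comp_apply]
  have := Set.ext_iff.1 hDC (sq.isoPullback.hom.base z)
  refine this.trans ?_
  show sq.isoPullback.inv.base (sq.isoPullback.hom.base z) ∈ C ↔ _
  rw [← Scheme.Hom.comp_apply, Iso.hom_inv_id]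
  rfl

theorem ClopenDesc.baseChange {g : T ⟶ S} (h : ClopenDesc g) {T₁ S₁ : Scheme.{u}} {i₁ : S₁ ⟶ S} {p₁ : T₁ ⟶ T}
    {g₁ : T₁ ⟶ S₁} [LocallyQuasiFinite i₁] [LocallyOfFiniteType i₁] (sq : IsPullback p₁ g₁ g i₁) :
    ClopenDesc g₁ :=
  fun _ _ i _ q _ _ sq' C hC => h (i ≫ i₁) _ q (sq'.paste_horiz sq) C hC

/-- the constant sheaf of sets with value `I` -/
abbrev cSh (S : Scheme.{u}) (I : Type u) : EtDesc.Sh S :=
  (constantSheaf S.smallEtaleTopology (Type (u + 1))).obj (ULift.{u + 1} I)

/-- a constant section -/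
def cEl {I : Type u} (a : I) (U : S.Etale) : (cSh S I).obj.obj (op U) :=
  (toSheafify S.smallEtaleTopology ((Functor.const S.Etaleᵒᵖ).obj (ULift.{u + 1} I))).app (op U) ⟨a⟩

theorem not_locEq_cEl {I : Type u} {a b : I} (hab : a ≠ b) (U : S.Etale) (z : U.left) :
    ¬ LocEq (cSh S I).obj (cEl a U) (cEl b U) z := fun h => by
  obtain ⟨Ω, _, _, ξ, t, -, e⟩ := germ_of_locEq h
  exact hab (congrArg ULift.down
    ((EtFound.toSheafify_const_germ_bijective ξ (Type (u + 1)) (ULift.{u + 1} I) U t).1 e))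

theorem locEq_secPull {q : T ⟶ S} (F : EtDesc.Sh S) (s s' : F.obj.obj (op (EtCoh.top S))) (x : T) :
    LocEq ((EtDesc.pullSh q).obj F).obj (EtDesc.secPull q F s) (EtDesc.secPull q F s') x ↔
      LocEq F.obj s s' (q.base x) := by
  let φ := (EtCore.bcTopIso q).inv
  have hl : φ.left ≫ pullback.fst (EtCoh.top S).hom q = q := by
    have hc : pullback.fst (EtCoh.top S).hom q ≫ (EtCoh.top S).hom = pullback.snd (EtCoh.top S).hom q ≫ q :=
      pullback.condition
    have hw : φ.left ≫ pullback.snd (EtCoh.top S).hom q = (EtCoh.top T).hom := MorphismProperty.Over.w φ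
    exact ((congrArg (φ.left ≫ ·) ((Category.comp_id _).symm.trans hc)).trans
      ((Category.assoc _ _ _).symm.trans (congrArg (· ≫ q) hw))).trans (Category.id_comp _)
  have hpr : pr q (EtCoh.top S) (φ.left x) = q.base x :=
    (Scheme.Hom.comp_apply _ _ _).symm.trans (congrArg (fun m : T ⟶ S => m.base x) hl)
  constructor
  · intro h
    have h' := locEq_of_up q F (h.of_map φ)
    rwa [hpr] at h'
  · intro h
    refine (locEq_up q F (z := φ.left x) ?_).map φ
    rw [hpr]
    exact h

/-- two sections on the pieces of a clopen decomposition -/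
theorem exists_clopen_section (G : EtDesc.Sh T) {C : Set T} (hC : IsClopen C)
    (s s' : G.obj.obj (op (EtCoh.top T))) :
    ∃ t, (∀ x ∈ C, LocEq G.obj t s x) ∧ (∀ x ∉ C, LocEq G.obj t s' x) := by
  let O : Bool → T.Opens := fun b => if b then ⟨C, hC.2⟩ else ⟨Cᶜ, hC.1.isOpen_compl⟩
  let W : Bool → T.Etale := fun b => Scheme.Etale.mk (O b).ι
  let π : ∀ b, W b ⟶ EtCoh.top T := fun b => (EtCore.topIsTerminal T).from _
  have hπ : ∀ b (w : (W b).left), (π b).left w = (O b).ι w := fun b w => by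
    have : (π b).left = (O b).ι := ((Category.comp_id _).symm.trans (MorphismProperty.Over.w (π b)))
    rw [this]
    rfl
  let sec : Bool → G.obj.obj (op (EtCoh.top T)) := fun b => if b then s else s'
  let c : ∀ b, G.obj.obj (op (W b)) := fun b => G.obj.map (π b).op (sec b)
  have hcomp : ∀ i j (Y : T.Etale) (p : Y ⟶ W i) (r : Y ⟶ W j), p ≫ π i = r ≫ π j →
      G.obj.map p.op (c i) = G.obj.map r.op (c j) := fun i j Y p r e => by
    rcases eq_or_ne i j with rfl | hij
    · rw [mapF, mapF, e]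
    · refine eq_of_locEq G fun y => False.elim ?_
      have e1 : (π i).left (p.left y) = (π j).left (r.left y) := by
        rw [← Scheme.Hom.comp_apply, ← Scheme.Hom.comp_apply]
        exact congrArg (fun m : Y ⟶ EtCoh.top T => m.left y) e
      rw [hπ, hπ] at e1
      have h1 : (O i).ι (p.left y) ∈ O i := (p.left y).2
      have h2 : (O i).ι (p.left y) ∈ O j := e1 ▸ (r.left y).2
      cases i <;> cases j
      · exact hij rfl
      · exact h1 h2
      · exact h2 h1
      · exact hij rfl
  have hcov : Sieve.generate (Presieve.ofArrows W π) ∈ T.smallEtaleTopology (EtCoh.top T) := by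
    rw [EtFound.mem_topology_iff]
    intro x
    by_cases hx : x ∈ C
    · exact ⟨W true, π true, ⟨x, hx⟩, ⟨W true, 𝟙 _, π true, ⟨true⟩, Category.id_comp _⟩, hπ true _⟩
    · exact ⟨W false, π false, ⟨x, hx⟩, ⟨W false, 𝟙 _, π false, ⟨false⟩, Category.id_comp _⟩, hπ false _⟩
  obtain ⟨t, ht, -⟩ := (Presieve.isSheafFor_arrows_iff _ _).1 ((Presieve.isSheafFor_iff_generate _).2
    (((isSheaf_iff_isSheaf_of_type _ _).1 G.property) _ hcov)) c hcomp
  exact ⟨t, fun x hx => ⟨W true, π true, ⟨⟨x, hx⟩, hπ true _⟩, ht true⟩,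
    fun x hx => ⟨W false, π false, ⟨⟨x, hx⟩, hπ false _⟩, ht false⟩⟩

/-- Bijectivity on sections of a constant sheaf lets clopens descend. -/
theorem clopen_of_secPull {I : Type u} [Nontrivial I] (q : T ⟶ S) (hq : Function.Surjective q.base)
    (h : Function.Surjective (EtDesc.secPull q (cSh S I))) {C : Set T} (hC : IsClopen C) :
    ∃ D : Set S, IsClopen D ∧ q.base ⁻¹' D = C := by
  obtain ⟨a, b, hab⟩ := exists_pair_ne I
  let ca := cEl (S := S) a (EtCoh.top S)
  let cb := cEl (S := S) b (EtCoh.top S)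
  obtain ⟨t, hta, htb⟩ := exists_clopen_section ((EtDesc.pullSh q).obj (cSh S I)) hC
    (EtDesc.secPull q _ ca) (EtDesc.secPull q _ cb)
  obtain ⟨s, rfl⟩ := h t
  let D : Set S := {y | LocEq (cSh S I).obj s ca y}
  let D' : Set S := {y | LocEq (cSh S I).obj s cb y}
  have hmem : ∀ x, x ∈ C ↔ q.base x ∈ D := fun x => by
    refine ⟨fun hx => (locEq_secPull _ s ca x).1 (hta x hx), fun hx => ?_⟩
    by_contra hn
    exact not_locEq_cEl hab (EtCoh.top S) (q.base x) ((LocEq.symm hx).trans ((locEq_secPull _ s cb x).1 (htb x hn)))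
  have hD : Dᶜ = D' := by
    ext y
    obtain ⟨x, rfl⟩ := hq y
    exact ⟨fun hy => (locEq_secPull _ s cb x).1 (htb x fun hx => hy ((hmem x).1 hx)),
      fun hy hy' => not_locEq_cEl hab (EtCoh.top S) (q.base x) ((LocEq.symm hy').trans hy)⟩
  refine ⟨D, ⟨isOpen_compl_iff.1 ?_, isOpen_locEq s ca⟩, Set.ext fun x => (hmem x).symm⟩
  rw [hD]
  exact isOpen_locEq s cb

theorem secPull_injective_of_surjective (q : T ⟶ S) [Surjective q] (F : EtDesc.Sh S) :
    Function.Injective (EtDesc.secPull q F) := fun s s' h => eq_of_locEq F fun y => by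
  obtain ⟨x, rfl⟩ := q.surjective y
  exact (locEq_secPull F s s' x).1 (h ▸ LocEq.refl _ _)

/-- Injectivity on constant sections for all quasi-finite base changes forces surjectivity. -/
theorem surjective_of_secPull {I : Type u} [Nontrivial I] {g : T ⟶ S} [QuasiCompact g] [QuasiSeparated g]
    (h : ∀ (S' : Scheme.{u}) (i : S' ⟶ S) [LocallyQuasiFinite i] [LocallyOfFiniteType i],
      Function.Injective (EtDesc.secPull (pullback.snd g i) (cSh S' I))) :
    Function.Surjective g.base := by
  intro y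
  by_contra hy
  obtain ⟨O, Z, hZ, ⟨z, hz⟩, hdis⟩ := exists_avoiding_range g y hy
  let J := Scheme.IdealSheafData.vanishingIdeal (⟨Z, hZ⟩ : TopologicalSpace.Closeds O.toScheme)
  have hr : Set.range J.subschemeι.base = Z :=
    (Scheme.IdealSheafData.range_subschemeι J).trans
      (Scheme.IdealSheafData.coe_support_vanishingIdeal (⟨Z, hZ⟩ : TopologicalSpace.Closeds O.toScheme))
  obtain ⟨z', -⟩ : z ∈ Set.range J.subschemeι.base := by rw [hr]; exact hz
  let i : J.subscheme ⟶ S := J.subschemeι ≫ O.ι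
  obtain ⟨a, b, hab⟩ := exists_pair_ne I
  refine not_locEq_cEl hab (EtCoh.top J.subscheme) z' ?_
  have key : cEl (S := J.subscheme) a (EtCoh.top _) = cEl b (EtCoh.top _) :=
    h J.subscheme i (eq_of_locEq _ fun x => False.elim (by
      have hc : g.base ((pullback.fst g i).base x) = i.base ((pullback.snd g i).base x) :=
        (Scheme.Hom.comp_apply _ _ _).symm.trans ((congrArg (fun m : pullback g i ⟶ S => m.base x)
          pullback.condition).trans (Scheme.Hom.comp_apply _ _ _))
      exact hdis (J.subschemeι.base ((pullback.snd g i).base x)) (hr ▸ ⟨_, rfl⟩) ⟨_, hc⟩))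
  rw [key]
  exact LocEq.refl _ _

theorem clopenDesc_of_secPull {I : Type u} [Nontrivial I] {g : T ⟶ S} (hg : Function.Surjective g.base)
    (h : ∀ (S' : Scheme.{u}) (i : S' ⟶ S) [LocallyQuasiFinite i] [LocallyOfFiniteType i],
      Function.Surjective (EtDesc.secPull (pullback.snd g i) (cSh S' I))) :
    ClopenDesc g := by
  haveI : Surjective g := ⟨hg⟩
  refine ClopenDesc.of_canonical fun S' i _ _ C hC => ?_
  haveI : Surjective (pullback.snd g i) := MorphismProperty.pullback_snd (P := @Surjective) g i ‹_›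
  exact clopen_of_secPull _ (pullback.snd g i).surjective (h S' i) hC

end Groth.Agent.EtDerLib.ZeroAcyc
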