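import Groth.Agent.EtDerLib.ZeroAcyc.Main

/-! # Flat morphisms with connected geometric fibres descend clopen sets -/

set_option autoImplicit false
set_option linter.style.haveILetI false
set_option backward.isDefEq.respectTransparency.types false

universe u

open CategoryTheory CategoryTheory.Limits AlgebraicGeometry Opposite TopologicalSpace

noncomputable section

namespace Groth.Agent.EtDerLib.ZeroAcyc

variable {X Y : Scheme.{u}}

/-- the geometric point of an algebraic closure of a residue field -/
abbrev closurePt (Y : Scheme.{u}) (y : Y) : Spec (CommRingCat.of (AlgebraicClosure (Y.residueField y))) ⟶ Y :=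
  EtAcyc.geomPt Y y (AlgebraicClosure (Y.residueField y))

theorem residueFieldMap_algebraic (i : X ⟶ Y) [LocallyQuasiFinite i] (x : X) :
    letI := (i.residueFieldMap x).hom.toAlgebra
    Algebra.IsAlgebraic (Y.residueField (i.base x)) (X.residueField x) := by
  letI := (i.residueFieldMap x).hom.toAlgebra
  have h1 : ((Y.residue (i.base x)) ≫ i.residueFieldMap x).hom.QuasiFinite := by
    rw [Scheme.residue_residueFieldMap]
    exact (RingHom.QuasiFinite.of_finite (RingHom.Finite.of_surjective _ (X.residue_surjective x))).comp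
      (i.quasiFiniteAt x)
  have h2 : (algebraMap (Y.residueField (i.base x)) (X.residueField x)).QuasiFinite :=
    RingHom.QuasiFinite.of_comp (g := (Y.residue (i.base x)).hom) h1
  haveI : Algebra.QuasiFinite (Y.residueField (i.base x)) (X.residueField x) :=
    RingHom.quasiFinite_algebraMap.1 h2
  haveI : Module.Finite (Y.residueField (i.base x)) (X.residueField x) := Module.Finite.of_quasiFinite
  exact Algebra.IsAlgebraic.of_finite _ _

/-- Geometric points of a quasi-finite scheme are given by algebraic closures downstairs. -/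
theorem exists_lift_closurePt (i : X ⟶ Y) [LocallyQuasiFinite i] (x : X) :
    ∃ ξ : Spec (CommRingCat.of (AlgebraicClosure (Y.residueField (i.base x)))) ⟶ X,
      ξ ≫ i = closurePt Y (i.base x) ∧ ∀ w, ξ.base w = x := by
  letI := (i.residueFieldMap x).hom.toAlgebra
  haveI : Algebra.IsAlgebraic (Y.residueField (i.base x)) (X.residueField x) := residueFieldMap_algebraic i x
  let σ : X.residueField x →ₐ[Y.residueField (i.base x)] AlgebraicClosure (Y.residueField (i.base x)) :=
    IsAlgClosed.lift
  refine ⟨Spec.map (CommRingCat.ofHom σ.toRingHom) ≫ X.fromSpecResidueField x, ?_, fun w => ?_⟩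
  · rw [Category.assoc, ← Scheme.Hom.SpecMap_residueFieldMap_fromSpecResidueField, ← Spec.map_comp_assoc]
    have : i.residueFieldMap x ≫ CommRingCat.ofHom σ.toRingHom =
        CommRingCat.ofHom (algebraMap (Y.residueField (i.base x)) (AlgebraicClosure (Y.residueField (i.base x)))) :=
      CommRingCat.hom_ext (RingHom.ext σ.commutes)
    exact congrArg (fun m => Spec.map m ≫ Y.fromSpecResidueField (i.base x)) this
  · rw [Scheme.Hom.comp_apply]
    exact Scheme.fromSpecResidueField_apply x _

/-- Flat quasi-compact morphisms with connected geometric fibres descend clopen sets. -/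
theorem clopenDesc_of_flat (g : X ⟶ Y) [Flat g] [QuasiCompact g]
    (hc : ∀ y : Y, ConnectedSpace ↥(pullback g (closurePt Y y))) :
    ClopenDesc g ∧ Function.Surjective g.base := by
  have hs : Function.Surjective g.base := fun y => by
    obtain ⟨z⟩ := (hc y).toNonempty
    refine ⟨(pullback.fst g (closurePt Y y)).base z, ?_⟩
    rw [← Scheme.Hom.comp_apply, pullback.condition, Scheme.Hom.comp_apply]
    exact (Scheme.Hom.comp_apply _ _ _).trans (Scheme.fromSpecResidueField_apply y _)
  refine ⟨?_, hs⟩
  intro X' Y' i p q _ _ sq C hC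
  haveI : Surjective g := ⟨hs⟩
  haveI : Surjective q := MorphismProperty.of_isPullback (P := @Surjective) sq ‹_›
  haveI : Flat q := MorphismProperty.of_isPullback (P := @Flat) sq ‹_›
  haveI : QuasiCompact q := MorphismProperty.of_isPullback (P := @QuasiCompact) sq ‹_›
  have hfib : ∀ x x', q.base x = q.base x' → x ∈ C → x' ∈ C := by
    intro x x' e hx
    obtain ⟨ξ, hξ, hξy⟩ := exists_lift_closurePt i (q.base x)
    haveI := hc (i.base (q.base x))
    let Ω := closurePt Y (i.base (q.base x))
    let φ : pullback g Ω ⟶ X' := sq.lift (pullback.fst g Ω) (pullback.snd g Ω ≫ ξ)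
      (by rw [Category.assoc, hξ, pullback.condition])
    have sqΩ : IsPullback φ (pullback.snd g Ω) q ξ := by
      refine IsPullback.of_right ?_ (sq.lift_snd _ _ _) sq
      rw [sq.lift_fst, hξ]
      exact IsPullback.of_hasPullback g Ω
    obtain ⟨a, ha, -⟩ := Scheme.exists_preimage_of_isPullback sqΩ x default (hξy _).symm
    obtain ⟨b, hb, -⟩ := Scheme.exists_preimage_of_isPullback sqΩ x' default ((hξy _).trans e).symm
    have hxa : φ.base a ∈ C := by
      rw [show φ.base a = x from ha]
      exact hx
    rcases isClopen_iff.1 (hC.preimage φ.continuous) with h | h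
    · exact False.elim ((Set.ext_iff.1 h a).1 hxa)
    · exact hb ▸ (h ▸ Set.mem_univ b : b ∈ φ.base ⁻¹' C)
  have hpre : q.base ⁻¹' (q.base '' C) = C :=
    Set.ext fun x => ⟨fun ⟨x', hx', e⟩ => hfib x' x e hx', fun hx => ⟨x, hx, rfl⟩⟩
  have hqm := Flat.isQuotientMap_of_surjective q
  refine ⟨q.base '' C, ⟨?_, hqm.isOpen_preimage.1 (hpre.symm ▸ hC.2)⟩, hpre⟩
  exact hqm.isClosed_preimage.1 (hpre.symm ▸ hC.1)

/-- Descent of clopen sets only depends on the base up to a surjective closed immersion. -/
theorem clopenDesc_of_thickening {X₀ Y₀ : Scheme.{u}} {g : X ⟶ Y} {g₀ : X₀ ⟶ Y₀} {c : Y₀ ⟶ Y} {c' : X₀ ⟶ X}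
    [IsClosedImmersion c] [Surjective c] (sq : IsPullback c' g₀ g c) (h : ClopenDesc g₀)
    (hs : Function.Surjective g₀.base) : ClopenDesc g ∧ Function.Surjective g.base := by
  refine ⟨?_, fun y => ?_⟩
  · intro X' Y' i p q _ _ sq' C hC
    let d := pullback.fst i c
    haveI : Surjective d := MorphismProperty.pullback_fst (P := @Surjective) i c ‹_›
    let d' := pullback.fst q d
    haveI : Surjective d' := MorphismProperty.pullback_fst (P := @Surjective) q d ‹_›
    have big : IsPullback (d' ≫ p) (pullback.snd q d) g (d ≫ i) :=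
      (IsPullback.of_hasPullback q d).paste_horiz sq'
    have hw : d ≫ i = pullback.snd i c ≫ c := pullback.condition
    rw [hw] at big
    let l := sq.lift (d' ≫ p) (pullback.snd q d ≫ pullback.snd i c)
      (by rw [big.w, Category.assoc])
    have sq₀ : IsPullback l (pullback.snd q d) g₀ (pullback.snd i c) :=
      IsPullback.of_right (by rw [sq.lift_fst]; exact big) (sq.lift_snd _ _ _) sq
    obtain ⟨D, hD, hDC⟩ := h (pullback.snd i c) l (pullback.snd q d) sq₀ (d'.base ⁻¹' C) (hC.preimage d'.continuous)
    have hhomeo : IsHomeomorph d.base := by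
      refine isHomeomorph_iff_isEmbedding_surjective.2 ⟨d.isClosedEmbedding.isEmbedding, d.surjective⟩
    refine ⟨d.base '' D, ⟨hhomeo.isClosedMap _ hD.1, hhomeo.isOpenMap _ hD.2⟩, Set.ext fun x => ?_⟩
    obtain ⟨w, rfl⟩ := d'.surjective x
    have hw' : q.base (d'.base w) = d.base ((pullback.snd q d).base w) :=
      (Scheme.Hom.comp_apply _ _ _).symm.trans ((congrArg (fun m : pullback q d ⟶ Y' => m.base w)
        pullback.condition).trans (Scheme.Hom.comp_apply _ _ _))
    show q.base (d'.base w) ∈ d.base '' D ↔ d'.base w ∈ C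
    rw [hw']
    exact (show d.base ((pullback.snd q d).base w) ∈ d.base '' D ↔ (pullback.snd q d).base w ∈ D from
      hhomeo.injective.mem_set_image).trans (Set.ext_iff.1 hDC w)
  · obtain ⟨y₀, rfl⟩ := c.surjective y
    obtain ⟨x₀, rfl⟩ := hs y₀
    exact ⟨c'.base x₀, (Scheme.Hom.comp_apply _ _ _).symm.trans
      ((congrArg (fun m : X₀ ⟶ Y => m.base x₀) sq.w).trans (Scheme.Hom.comp_apply _ _ _))⟩

end Groth.Agent.EtDerLib.ZeroAcyc
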