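import Groth.Agent.EtDerLib.ZeroAcyc.Solve
import Groth.Agent.EtBCLib.BCSections
import Groth.Agent.S3887
import Mathlib.AlgebraicGeometry.ZariskisMainTheorem

/-! # Zero-acyclicity and sections of constant sheaves of sets -/

set_option autoImplicit false
set_option linter.style.haveILetI false
set_option backward.isDefEq.respectTransparency.types false

universe u

open CategoryTheory CategoryTheory.Limits AlgebraicGeometry Opposite TopologicalSpace

noncomputable section

namespace Groth.Agent.EtDerLib.ZeroAcyc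

open BigSiteLib.DescSec

variable {X Y : Scheme.{u}} {g : X ⟶ Y} [QuasiCompact g] [QuasiSeparated g]

theorem zeroAcyclic_of_clopenDesc (hh : ClopenDesc g) (hs : Function.Surjective g.base) :
    EtAcyc.IsZeroAcyclic g := by
  intro V F
  haveI : Etale V.hom := V.prop
  haveI : Surjective g := ⟨hs⟩
  haveI : QuasiCompact (EtAcyc.prj g V) := MorphismProperty.pullback_fst (P := @QuasiCompact) V.hom g ‹_›
  haveI : QuasiSeparated (EtAcyc.prj g V) := MorphismProperty.pullback_fst (P := @QuasiSeparated) V.hom g ‹_›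
  haveI : Surjective (EtAcyc.prj g V) := MorphismProperty.pullback_fst (P := @Surjective) V.hom g ‹_›
  exact isIso_unit F (hh.baseChange (IsPullback.of_hasPullback V.hom g).flip) (EtAcyc.prj g V).surjective

omit [QuasiCompact g] [QuasiSeparated g] in
theorem minusOne_of_zero (h : EtAcyc.IsZeroAcyclic g) : EtAcyc.IsMinusOneAcyclic g := fun V F =>
  haveI := h V F
  inferInstance

theorem clopenDesc_of_zeroAcyclic (h : EtAcyc.IsZeroAcyclic g) : ClopenDesc g := by
  haveI : Surjective g := ⟨surjective_of_minusOne g (minusOne_of_zero h)⟩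
  refine ClopenDesc.of_canonical fun Y' i _ _ C hC => ?_
  let q := pullback.snd g i
  haveI : Surjective q := MorphismProperty.pullback_snd (P := @Surjective) g i ‹_›
  have hmain : ∀ y : Y', ∃ (W : Scheme.{u}) (r : W ⟶ Y'), Etale r ∧ y ∈ Set.range r.base ∧
      ∃ D₀ : Set W, IsOpen D₀ ∧ IsClosed D₀ ∧
        ∀ x : ↥(pullback r q), (pullback.fst r q).base x ∈ D₀ ↔ (pullback.snd r q).base x ∈ C := by
    intro y
    obtain ⟨U', hU', hyU', -⟩ := exists_isAffineOpen_mem_and_subset (x := y) (U := (⊤ : Y'.Opens)) trivial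
    haveI : IsAffine U'.toScheme := hU'
    let i' : U'.toScheme ⟶ Y := U'.ι ≫ i
    haveI : IsSeparated i' := by
      haveI : IsSeparated (i' ≫ terminal.from Y) := by
        rw [Subsingleton.elim (i' ≫ terminal.from Y) (terminal.from U'.toScheme)]
        infer_instance
      exact IsSeparated.of_comp i' (terminal.from Y)
    obtain ⟨U, e, he, hse, Vo, Wo, v, hcompl, hfin, hv⟩ :=
      exists_etale_isCompl_of_quasiFiniteAt i' (x := ⟨y, hyU'⟩) rfl (i'.quasiFiniteAt _)
    let p : Vo.toScheme ⟶ U := Vo.ι ≫ pullback.snd i' e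
    let r : Vo.toScheme ⟶ Y' := Vo.ι ≫ pullback.fst i' e ≫ U'.ι
    haveI := he
    haveI : Etale r := inferInstance
    have hr : r.base v = y := by
      show (Vo.ι ≫ pullback.fst i' e ≫ U'.ι).base v = y
      rw [Scheme.Hom.comp_apply, Scheme.Hom.comp_apply]
      exact congrArg U'.ι.base hv
    refine ⟨_, r, inferInstance, ⟨v, hr⟩, ?_⟩
    let Uo : Y.Etale := Scheme.Etale.mk e
    let h₀ := EtAcyc.prj g Uo
    have hunit : ∀ F : EtDesc.Sh U, Function.Bijective (EtDesc.secPull h₀ F) := fun F => by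
      haveI := h Uo F
      haveI : IsIso ((sheafToPresheaf _ _).map ((EtDesc.adjSh h₀).unit.app F)) := inferInstance
      have hb : Function.Bijective (((EtDesc.adjSh h₀).unit.app F).hom.app (op (EtCoh.top U))) :=
        (isIso_iff_bijective _).1 (((sheafToPresheaf _ _).mapIso (asIso ((EtDesc.adjSh h₀).unit.app F))).app
          (op (EtCoh.top U))).isIso_hom
      exact (((EtDesc.pullSh h₀).obj F).obj.mapIso (EtCore.bcTopIso h₀).symm.op).toEquiv.bijective.comp hb
    have hw : p ≫ e = r ≫ i := by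
      show (Vo.ι ≫ pullback.snd i' e) ≫ e = (Vo.ι ≫ pullback.fst i' e ≫ U'.ι) ≫ i
      simp only [Category.assoc]
      rw [← pullback.condition]
    have big : IsPullback (pullback.snd r q ≫ pullback.fst g i) (pullback.fst r q) g (r ≫ i) :=
      (IsPullback.of_hasPullback r q).flip.paste_horiz (IsPullback.of_hasPullback g i)
    rw [← hw] at big
    have small : IsPullback (pullback.snd e g) h₀ g e := (IsPullback.of_hasPullback e g).flip
    let pY : pullback r q ⟶ pullback e g := small.lift (pullback.snd r q ≫ pullback.fst g i)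
      (pullback.fst r q ≫ p) (big.w.trans (Category.assoc _ _ _).symm)
    have sq : IsPullback pY (pullback.fst r q) h₀ p :=
      IsPullback.of_right (by rw [small.lift_fst]; exact big) (small.lift_snd _ _ _) small
    haveI : IsFinite p := hfin
    have hbij := (EtBCLib.secPull_pullback h₀ p (pullback.fst r q) pY sq.flip.w).2 hunit
      (fun Fb => Groth.Agent.S3887.result p h₀ pY (pullback.fst r q) sq.flip Fb)
    haveI : Surjective (pullback.fst r q) := MorphismProperty.pullback_fst (P := @Surjective) r q ‹_›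
    obtain ⟨D₀, hD₀, hD₀C⟩ := clopen_of_secPull (I := ULift.{u} Bool) (pullback.fst r q) (pullback.fst r q).surjective
      (hbij (cSh _ (ULift.{u} Bool))).2 (hC.preimage (pullback.snd r q).continuous)
    exact ⟨D₀, hD₀.2, hD₀.1, fun x => Set.ext_iff.1 hD₀C x⟩
  have hlocal : ∀ y : Y', ∃ N : Set Y', IsOpen N ∧ y ∈ N ∧
      ((∀ x, q.base x ∈ N → x ∈ C) ∨ (∀ x, q.base x ∈ N → x ∉ C)) := fun y => by
    obtain ⟨W, r, hr, ⟨v, hv⟩, D₀, hDo, hDc, hD⟩ := hmain y
    haveI := hr
    by_cases hvD : v ∈ D₀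
    · refine ⟨r.base '' D₀, r.isOpenMap _ hDo, ⟨v, hvD, hv⟩, Or.inl fun x ⟨w, hw, e⟩ => ?_⟩
      obtain ⟨t, ht1, ht2⟩ := Scheme.Pullback.exists_preimage_pullback (f := r) (g := q) w x e
      exact ht2 ▸ (hD t).1 (ht1.symm ▸ hw)
    · refine ⟨r.base '' D₀ᶜ, r.isOpenMap _ hDc.isOpen_compl, ⟨v, hvD, hv⟩, Or.inr fun x ⟨w, hw, e⟩ hx => ?_⟩
      obtain ⟨t, ht1, ht2⟩ := Scheme.Pullback.exists_preimage_pullback (f := r) (g := q) w x e
      exact hw (ht1 ▸ (hD t).2 (ht2.symm ▸ hx))
  refine ⟨q.base '' C, ⟨⟨isOpen_iff_forall_mem_open.2 fun y hy => ?_⟩,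
    isOpen_iff_forall_mem_open.2 fun y ⟨x, hx, hxy⟩ => ?_⟩, Set.ext fun x => ⟨fun ⟨x', hx', e⟩ => ?_, fun hx => ⟨x, hx, rfl⟩⟩⟩
  · obtain ⟨N, hN, hyN, hN'⟩ := hlocal y
    rcases hN' with hN' | hN'
    · obtain ⟨x, hx⟩ := q.surjective y
      exact absurd ⟨x, hN' x (hx.symm ▸ hyN), hx⟩ hy
    · exact ⟨N, fun y' hy' ⟨x, hx, e⟩ => hN' x (e.symm ▸ hy') hx, hN, hyN⟩
  · obtain ⟨N, hN, hyN, hN'⟩ := hlocal y
    rcases hN' with hN' | hN'
    · refine ⟨N, fun y' hy' => ?_, hN, hyN⟩
      obtain ⟨x', hx'⟩ := q.surjective y'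
      exact ⟨x', hN' x' (hx'.symm ▸ hy'), hx'⟩
    · exact absurd hx (hN' x (hxy.symm ▸ hyN))
  · obtain ⟨N, hN, hyN, hN'⟩ := hlocal (q.base x)
    rcases hN' with hN' | hN'
    · exact hN' x hyN
    · exact absurd hx' (hN' x' (e.symm ▸ hyN))

omit [QuasiCompact g] [QuasiSeparated g] in
theorem surjective_pullback_snd [Surjective g] {Y' : Scheme.{u}} (i : Y' ⟶ Y) : Surjective (pullback.snd g i) :=
  MorphismProperty.pullback_snd (P := @Surjective) g i ‹_›

theorem zero_iff (I : Type u) [Nontrivial I] :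
    EtAcyc.IsZeroAcyclic g ↔
      ∀ (Y' : Scheme.{u}) (i : Y' ⟶ Y) [LocallyQuasiFinite i] [LocallyOfFiniteType i],
        Function.Bijective (EtDesc.secPull (pullback.snd g i) (cSh Y' I)) := by
  constructor
  · intro h Y' i _ _
    haveI : Surjective g := ⟨surjective_of_minusOne g (minusOne_of_zero h)⟩
    haveI := surjective_pullback_snd (g := g) i
    have hq := isIso_unit (cSh Y' I) ((clopenDesc_of_zeroAcyclic h).baseChange (IsPullback.of_hasPullback g i))
      (pullback.snd g i).surjective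
    have hb : Function.Bijective (((EtDesc.adjSh (pullback.snd g i)).unit.app (cSh Y' I)).hom.app (op (EtCoh.top Y'))) :=
      (isIso_iff_bijective _).1 (((sheafToPresheaf _ _).mapIso (asIso ((EtDesc.adjSh (pullback.snd g i)).unit.app (cSh Y' I)))).app
        (op (EtCoh.top Y'))).isIso_hom
    exact (((EtDesc.pullSh (pullback.snd g i)).obj (cSh Y' I)).obj.mapIso
      (EtCore.bcTopIso (pullback.snd g i)).symm.op).toEquiv.bijective.comp hb
  · intro h
    have hs := surjective_of_secPull (I := I) (g := g) fun Y' i _ _ => (h Y' i).1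
    exact zeroAcyclic_of_clopenDesc (clopenDesc_of_secPull hs fun Y' i _ _ => (h Y' i).2) hs

theorem minusOne_iff (I : Type u) [Nontrivial I] :
    EtAcyc.IsMinusOneAcyclic g ↔
      ∀ (Y' : Scheme.{u}) (i : Y' ⟶ Y) [LocallyQuasiFinite i] [LocallyOfFiniteType i],
        Function.Injective (EtDesc.secPull (pullback.snd g i) (cSh Y' I)) := by
  constructor
  · intro h Y' i _ _
    haveI : Surjective g := ⟨surjective_of_minusOne g h⟩
    haveI := surjective_pullback_snd (g := g) i
    exact secPull_injective_of_surjective _ _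
  · intro h
    haveI : Surjective g := ⟨surjective_of_secPull (I := I) (g := g) h⟩
    exact minusOne_of_surjective g

end Groth.Agent.EtDerLib.ZeroAcyc
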