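import Groth.Agent.EtDerLib.ZeroAcyc.NormalTensor
import Groth.Agent.WEtLib.Olivier
import Mathlib.FieldTheory.IsAlgClosed.AlgebraicClosure
import Mathlib.RingTheory.Spectrum.Prime.Topology

/-! # Geometric fibres of local maps weakly étale over a product with a field algebra -/

set_option autoImplicit false
set_option linter.style.haveILetI false
set_option backward.isDefEq.respectTransparency.types false

universe u

open scoped TensorProduct
open Polynomial

noncomputable section

namespace Groth.Agent.EtDerLib.ZeroAcyc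

theorem connectedSpace_of_idem (T : Type u) [CommRing T] [Nontrivial T]
    (h : ∀ e : T, e * e = e → e = 0 ∨ e = 1) : ConnectedSpace (PrimeSpectrum T) := by
  rw [connectedSpace_iff_clopen]
  refine ⟨inferInstance, fun s hs => ?_⟩
  obtain ⟨e, he, rfl⟩ := PrimeSpectrum.isClopen_iff.mp hs
  rcases h e he with rfl | rfl
  · left; simp
  · right; simp

theorem weaklyEtale_of_algEquiv {S R T : Type u} [CommRing S] [CommRing R] [CommRing T] [Algebra S R] [Algebra S T]
    [Algebra.WeaklyEtale S R] (e : R ≃ₐ[S] T) : Algebra.WeaklyEtale S T := by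
  letI := e.toAlgHom.toRingHom.toAlgebra
  haveI : IsScalarTower S R T := IsScalarTower.of_algebraMap_eq fun k => (e.commutes k).symm
  haveI : Algebra.Etale R T :=
    Algebra.Etale.of_equiv (AlgEquiv.ofBijective (Algebra.ofId R T) e.bijective)
  exact Algebra.WeaklyEtale.trans S R T

/-- The abstract core: idempotents downstairs. -/
theorem idem_of_divClosed {M S S₀ N : Type u} [CommRing M] [CommRing S] [CommRing S₀] [CommRing N]
    [Algebra S N] [Algebra.WeaklyEtale S N] [IsLocalRing N] [Algebra S S₀]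
    (hπ : Function.Surjective (algebraMap S S₀))
    (hnil : ∀ x, algebraMap S S₀ x = 0 → IsNilpotent x)
    (j : N →+* M) (hj : Function.Injective j) {e : M} (he : e * e = e)
    {a : S} (ha : DivClosed (algebraMap S S₀ a)) (hu : IsUnit (j (algebraMap S N a)))
    {b : N} (hb : j (algebraMap S N a) * e = j b) : e = 0 ∨ e = 1 := by
  have hbb : b * b = algebraMap S N a * b := hj (by rw [map_mul, map_mul, ← hb]; linear_combination (j (algebraMap S N a)) ^ 2 * he)
  let q : N →ₐ[S] S₀ ⊗[S] N := Algebra.TensorProduct.includeRight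
  have hq : Function.Surjective q := fun w => by
    induction w using TensorProduct.induction_on with
    | zero => exact ⟨0, map_zero q⟩
    | tmul x y =>
      obtain ⟨s, rfl⟩ := hπ x
      refine ⟨s • y, ?_⟩
      show (1 : S₀) ⊗ₜ[S] (s • y) = _
      rw [← TensorProduct.smul_tmul, Algebra.algebraMap_eq_smul_one]
    | add u v hu hv =>
      obtain ⟨x, rfl⟩ := hu
      obtain ⟨y, rfl⟩ := hv
      exact ⟨x + y, map_add q _ _⟩
  have hker : ∀ x, q x = 0 → IsNilpotent x := fun x hx => by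
    let g : S →ₐ[S] S₀ := Algebra.ofId S S₀
    have h1 : (Algebra.TensorProduct.map g (AlgHom.id S N)) ((1 : S) ⊗ₜ[S] x) = 0 := by
      rw [Algebra.TensorProduct.map_tmul, map_one]; exact hx
    rw [← RingHom.mem_ker, Algebra.TensorProduct.rTensor_ker g hπ] at h1
    have h2 : (Ideal.map (Algebra.TensorProduct.includeLeft : S →ₐ[S] S ⊗[S] N) (RingHom.ker g)) ≤
        nilradical (S ⊗[S] N) := Ideal.map_le_iff_le_comap.2 fun z hz => by
      exact (hnil z (RingHom.mem_ker.1 hz)).map _
    have h3 : IsNilpotent ((1 : S) ⊗ₜ[S] x) := h2 h1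
    simpa using h3.map (Algebra.TensorProduct.lid S N)
  let a₀ : S₀ := algebraMap S S₀ a
  have hqa : q (algebraMap S N a) = algebraMap S₀ (S₀ ⊗[S] N) a₀ := by
    rw [q.commutes, ← IsScalarTower.algebraMap_apply]
  have hd : q b * q b = algebraMap S₀ (S₀ ⊗[S] N) a₀ * q b := by rw [← hqa, ← map_mul, hbb, map_mul]
  obtain ⟨c, hc⟩ := exists_of_idem ha hd
  obtain ⟨c', rfl⟩ := hq c
  have hreg := isLeftRegular_map ha (W := S₀ ⊗[S] N)
  have hcc : q (c' * c' - c') = 0 := by
    rw [hc] at hd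
    rw [map_sub, map_mul, sub_eq_zero]
    exact hreg (hreg (by linear_combination hd))
  have hnc := hker _ hcc
  have hν : IsNilpotent (b - algebraMap S N a * c') := hker _ (by rw [map_sub, map_mul, hqa, hc, sub_self])
  have hidem : ∀ f : M, f * f = f → IsNilpotent (j (algebraMap S N a) * f) → f = 0 := fun f hf hn => by
    obtain ⟨n, hn⟩ := hn
    have h1 : ∀ m : ℕ, f ^ (m + 1) = f := fun m => by
      induction m with
      | zero => exact pow_one f
      | succ m ih => rw [pow_succ, ih, hf]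
    have h2 : (j (algebraMap S N a) * f) ^ (n + 1) = 0 := by rw [pow_succ, hn, zero_mul]
    rw [mul_pow, h1] at h2
    exact (hu.pow _).mul_right_eq_zero.1 h2
  rcases IsLocalRing.isUnit_or_isUnit_one_sub_self c' with hc' | hc'
  · refine Or.inr (sub_eq_zero.1 (hidem (1 - e) (by linear_combination he) ?_)).symm
    have h1 : IsNilpotent (1 - c') := by
      have h : IsNilpotent (c' * (1 - c')) := by rw [show c' * (1 - c') = -(c' * c' - c') by ring]; exact hnc.neg
      obtain ⟨n, hn⟩ := h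
      exact ⟨n, (hc'.pow n).mul_right_eq_zero.1 (by rw [← mul_pow]; exact hn)⟩
    have h2 : IsNilpotent (algebraMap S N a - b) := by
      rw [show algebraMap S N a - b = algebraMap S N a * (1 - c') + -(b - algebraMap S N a * c') by ring]
      exact Commute.isNilpotent_add (Commute.all _ _) ((Commute.all _ _).isNilpotent_mul_left h1) hν.neg
    rw [mul_sub, mul_one, hb, ← map_sub]
    exact h2.map j
  · refine Or.inl (hidem e he ?_)
    have h1 : IsNilpotent c' := by
      have h : IsNilpotent ((1 - c') * c') := by rw [show (1 - c') * c' = -(c' * c' - c') by ring]; exact hnc.neg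
      obtain ⟨n, hn⟩ := h
      exact ⟨n, (hc'.pow n).mul_right_eq_zero.1 (by rw [← mul_pow]; exact hn)⟩
    rw [hb]
    refine IsNilpotent.map ?_ j
    rw [show b = algebraMap S N a * c' + (b - algebraMap S N a * c') by ring]
    exact Commute.isNilpotent_add (Commute.all _ _) ((Commute.all _ _).isNilpotent_mul_left h1) hν

section prod

variable (k A R B D : Type u) [CommRing k] [CommRing A] [Algebra k A] [CommRing R] [Algebra k R] [CommRing B]
  [Algebra A B] [Algebra (A ⊗[k] R) B] [IsScalarTower A (A ⊗[k] R) B] [Algebra.WeaklyEtale (A ⊗[k] R) B]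
  [CommRing D] [Algebra A D] [Algebra k D] [IsScalarTower k A D]

/-- base change of `B` along `A → D` as an algebra over `D ⊗[k] R` -/
theorem exists_weaklyEtale_prod : ∃ φ : D ⊗[k] R →+* D ⊗[A] B, (∀ d : D, φ (d ⊗ₜ 1) = d ⊗ₜ 1) ∧
    letI := φ.toAlgebra
    Algebra.WeaklyEtale (D ⊗[k] R) (D ⊗[A] B) := by
  let N := D ⊗[A] B
  let fS : A ⊗[k] R →ₐ[k] D ⊗[k] R :=
    Algebra.TensorProduct.map (IsScalarTower.toAlgHom k A D) (AlgHom.id k R)
  let ψ : R →ₐ[k] N := by
    letI : Algebra k B := ((algebraMap A B).comp (algebraMap k A)).toAlgebra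
    haveI : IsScalarTower k A B := .of_algebraMap_eq fun _ => rfl
    haveI : IsScalarTower k (A ⊗[k] R) B := .to₁₃₄ k A (A ⊗[k] R) B
    exact ((Algebra.TensorProduct.includeRight : B →ₐ[A] N).restrictScalars k).comp
      ((IsScalarTower.toAlgHom k (A ⊗[k] R) B).comp Algebra.TensorProduct.includeRight)
  let toN : D ⊗[k] R →ₐ[D] N := Algebra.TensorProduct.lift (Algebra.ofId D N) ψ (fun _ _ => Commute.all _ _)
  letI : Algebra (D ⊗[k] R) N := toN.toRingHom.toAlgebra
  letI : Algebra (A ⊗[k] R) (D ⊗[k] R) := fS.toRingHom.toAlgebra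
  refine ⟨toN.toRingHom, fun d => ?_, ?_⟩
  · show toN (d ⊗ₜ 1) = _
    simp [toN, N, Algebra.TensorProduct.algebraMap_apply]
  · show Algebra.WeaklyEtale (D ⊗[k] R) N
    have hcomm : ∀ x : A ⊗[k] R, toN (fS x) = (1 : D) ⊗ₜ[A] algebraMap (A ⊗[k] R) B x := fun x => by
      induction x using TensorProduct.induction_on with
      | zero => simp
      | add u v hu hv => rw [map_add, map_add, hu, hv, map_add, TensorProduct.tmul_add]
      | tmul x y =>
        have e1 : (x ⊗ₜ[k] y : A ⊗[k] R) = algebraMap A (A ⊗[k] R) x * ((1 : A) ⊗ₜ y) := by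
          simp [Algebra.TensorProduct.algebraMap_apply]
        show algebraMap D N (algebraMap A D x) * ((1 : D) ⊗ₜ[A] algebraMap (A ⊗[k] R) B ((1 : A) ⊗ₜ y)) = _
        rw [e1, map_mul, ← IsScalarTower.algebraMap_apply, ← IsScalarTower.algebraMap_apply,
          Algebra.TensorProduct.algebraMap_apply, Algebra.TensorProduct.tmul_mul_tmul, mul_one, one_mul, ← Algebra.smul_def,
          TensorProduct.tmul_smul, TensorProduct.smul_tmul', Algebra.algebraMap_eq_smul_one]
    letI : Algebra (A ⊗[k] R) N := (toN.toRingHom.comp fS.toRingHom).toAlgebra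
    haveI : IsScalarTower (A ⊗[k] R) (D ⊗[k] R) N := .of_algebraMap_eq fun _ => rfl
    haveI : IsScalarTower A (A ⊗[k] R) (D ⊗[k] R) := .of_algebraMap_eq fun x => by
      show algebraMap A D x ⊗ₜ[k] (1 : R) = fS (x ⊗ₜ 1)
      simp [fS]
    let g : (D ⊗[k] R) ⊗[A ⊗[k] R] B →ₐ[D ⊗[k] R] N := Algebra.TensorProduct.lift (Algebra.ofId _ N)
      { toRingHom := (Algebra.TensorProduct.includeRight : B →ₐ[A] N).toRingHom
        commutes' := fun x => (hcomm x).symm } (fun _ _ => Commute.all _ _)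
    let hD : D →ₐ[A] (D ⊗[k] R) ⊗[A ⊗[k] R] B :=
      { toRingHom := Algebra.TensorProduct.includeLeftRingHom.comp Algebra.TensorProduct.includeLeftRingHom
        commutes' := fun x => rfl }
    let hB : B →ₐ[A] (D ⊗[k] R) ⊗[A ⊗[k] R] B :=
      { toRingHom := (Algebra.TensorProduct.includeRight : B →ₐ[A ⊗[k] R] _).toRingHom
        commutes' := fun x => by
          show (Algebra.TensorProduct.includeRight : B →ₐ[A ⊗[k] R] (D ⊗[k] R) ⊗[A ⊗[k] R] B) (algebraMap A B x) = _
          rw [IsScalarTower.algebraMap_apply A (A ⊗[k] R) B, AlgHom.commutes]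
          show algebraMap (A ⊗[k] R) (D ⊗[k] R) (algebraMap A (A ⊗[k] R) x) ⊗ₜ[A ⊗[k] R] (1 : B) =
            algebraMap A (D ⊗[k] R) x ⊗ₜ[A ⊗[k] R] (1 : B)
          rw [← IsScalarTower.algebraMap_apply] }
    let g' : N →ₐ[A] (D ⊗[k] R) ⊗[A ⊗[k] R] B := Algebra.TensorProduct.lift hD hB (fun u v => Commute.all (hD u) (hB v))
    refine weaklyEtale_of_algEquiv (AlgEquiv.ofBijective g ⟨Function.LeftInverse.injective (g := g') fun z => ?_,
      Function.RightInverse.surjective (g := g') fun z => ?_⟩)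
    · induction z using TensorProduct.induction_on with
      | zero => simp
      | add u v hu hv => rw [map_add, map_add, hu, hv]
      | tmul s y =>
        induction s using TensorProduct.induction_on with
        | zero => simp
        | add u v hu hv => rw [TensorProduct.add_tmul, map_add, map_add, hu, hv]
        | tmul d r =>
          show g' (toN (d ⊗ₜ r) * ((1 : D) ⊗ₜ y)) = _
          rw [show toN (d ⊗ₜ r) = (d ⊗ₜ[A] (1 : B)) * ((1 : D) ⊗ₜ algebraMap (A ⊗[k] R) B ((1 : A) ⊗ₜ r)) from rfl,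
            map_mul, map_mul, Algebra.TensorProduct.lift_tmul, Algebra.TensorProduct.lift_tmul,
            Algebra.TensorProduct.lift_tmul, map_one, map_one, one_mul, one_mul, mul_one]
          show (((d ⊗ₜ[k] (1 : R)) ⊗ₜ[A ⊗[k] R] (1 : B)) * ((1 : D ⊗[k] R) ⊗ₜ algebraMap (A ⊗[k] R) B ((1 : A) ⊗ₜ r))) *
            ((1 : D ⊗[k] R) ⊗ₜ y) = _
          rw [Algebra.TensorProduct.tmul_mul_tmul, Algebra.TensorProduct.tmul_mul_tmul, mul_one, mul_one, one_mul,
            ← Algebra.smul_def, ← TensorProduct.smul_tmul, Algebra.smul_def]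
          show ((fS ((1 : A) ⊗ₜ r)) * (d ⊗ₜ[k] (1 : R))) ⊗ₜ y = _
          simp [fS]
    · induction z using TensorProduct.induction_on with
      | zero => simp
      | add u v hu hv => rw [map_add, map_add, hu, hv]
      | tmul d y =>
        show g (((d ⊗ₜ[k] (1 : R)) ⊗ₜ[A ⊗[k] R] (1 : B)) * ((1 : D ⊗[k] R) ⊗ₜ y)) = _
        rw [Algebra.TensorProduct.tmul_mul_tmul, mul_one, one_mul, Algebra.TensorProduct.lift_tmul]
        show toN (d ⊗ₜ 1) * ((1 : D) ⊗ₜ y) = _
        simp [toN, N, Algebra.TensorProduct.algebraMap_apply, Algebra.TensorProduct.tmul_mul_tmul]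

end prod

section reduce

variable {k kb R D : Type u} [Field k] [Field kb] [Algebra k kb] [IsAlgClosed kb] [CommRing R] [Algebra k R] [CommRing D] [IsDomain D] [Algebra k D]
  [Algebra kb D] [IsScalarTower k kb D]

variable (kb) in
include kb in
theorem exists_divClosed_cover {a : D} (ha : a ≠ 0)
    (hD : ∀ (n : ℕ) (p : D[X]), p.Monic → ∀ d : D, (p.scaleRoots (a ^ n)).eval d = 0 → a ^ n ∣ d) :
    ∃ (S₀ : Type u) (_ : CommRing S₀) (π : D ⊗[k] R →+* S₀), Function.Surjective π ∧
      (∀ x, π x = 0 → IsNilpotent x) ∧ DivClosed (π (a ⊗ₜ 1)) := by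
  let R' := (kb ⊗[k] R) ⧸ nilradical (kb ⊗[k] R)
  haveI : IsReduced R' :=
    (Ideal.isRadical_iff_quotient_reduced _).1 (Ideal.radical_isRadical _)
  have hsurjmk : Function.Surjective (Ideal.Quotient.mkₐ kb (nilradical (kb ⊗[k] R))) :=
    Ideal.Quotient.mk_surjective
  let c := Algebra.TensorProduct.cancelBaseChange k kb D D R
  let m : D ⊗[kb] (kb ⊗[k] R) →ₐ[D] D ⊗[kb] R' :=
    Algebra.TensorProduct.map (AlgHom.id D D) (Ideal.Quotient.mkₐ kb _)
  refine ⟨D ⊗[kb] R', inferInstance, m.toRingHom.comp c.symm.toAlgHom.toRingHom,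
    ?_, fun x hx => ?_, ?_⟩
  · have hm : Function.Surjective m := fun w => by
      induction w using TensorProduct.induction_on with
      | zero => exact ⟨0, map_zero m⟩
      | tmul u v =>
        obtain ⟨v', rfl⟩ := hsurjmk v
        exact ⟨u ⊗ₜ v', Algebra.TensorProduct.map_tmul ..⟩
      | add u v hu hv =>
        obtain ⟨u', rfl⟩ := hu
        obtain ⟨v', rfl⟩ := hv
        exact ⟨u' + v', map_add m _ _⟩
    intro w
    obtain ⟨v, rfl⟩ := hm w
    exact ⟨c v, congrArg m (c.symm_apply_apply v)⟩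
  · have hx' : c.symm x ∈ RingHom.ker (Algebra.TensorProduct.map (AlgHom.id kb D)
        (Ideal.Quotient.mkₐ kb (nilradical (kb ⊗[k] R)))) := RingHom.mem_ker.2 hx
    rw [Algebra.TensorProduct.lTensor_ker _ hsurjmk] at hx'
    have h2 : Ideal.map (Algebra.TensorProduct.includeRight :
        kb ⊗[k] R →ₐ[kb] D ⊗[kb] (kb ⊗[k] R))
        (RingHom.ker (Ideal.Quotient.mkₐ kb (nilradical (kb ⊗[k] R)))) ≤ nilradical _ :=
      Ideal.map_le_iff_le_comap.2 fun z hz =>
        IsNilpotent.map (Ideal.Quotient.eq_zero_iff_mem.1 (RingHom.mem_ker.1 hz) : IsNilpotent z) _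
    have h3 : IsNilpotent (c.symm x) := h2 hx'
    have h4 := h3.map c
    rwa [AlgEquiv.apply_symm_apply] at h4
  · have e : m (c.symm (a ⊗ₜ 1)) = a ⊗ₜ[kb] (1 : R') := by
      simp [m, c]
      rfl
    show DivClosed (m (c.symm (a ⊗ₜ 1)))
    rw [e]
    exact divClosed_tensor ha hD

end reduce

variable (k A R B : Type u) [Field k] [CommRing A] [Algebra k A] [CommRing R] [Algebra k R] [CommRing B]
  [Algebra A B] [HenselianLocalRing A] [IsSepClosed (IsLocalRing.ResidueField A)] [IsLocalRing B]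
  [IsLocalHom (algebraMap A B)] [Algebra (A ⊗[k] R) B] [IsScalarTower A (A ⊗[k] R) B]
  [Algebra.WeaklyEtale (A ⊗[k] R) B]

include k R in
/-- `A`-geometric fibres of `B` are connected. -/
theorem connectedSpace_tensor_algClosed (K : Type u) [Field K] [IsAlgClosed K] [Algebra A K]
    (hK : ∀ z : K, ∃ a : A, algebraMap A K a ≠ 0 ∧ IsIntegral A (algebraMap A K a * z)) :
    ConnectedSpace (PrimeSpectrum (K ⊗[A] B)) := by
  classical
  haveI : Module.Flat A B := Module.Flat.trans A (A ⊗[k] R) B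
  haveI : Module.FaithfullyFlat A B := Module.FaithfullyFlat.of_flat_of_isLocalHom
  refine connectedSpace_of_idem _ fun e he => ?_
  let D := integralClosure A K
  haveI : IsLocalRing D := Hensel.isLocalRing_of_isIntegral_domain A D
  obtain ⟨_, -⟩ := WEtLib.isLocalRing_tensor (A := A) (B := B) D
  let N := D ⊗[A] B
  let j : N →ₐ[A] K ⊗[A] B := Algebra.TensorProduct.map D.val (AlgHom.id A B)
  have hj : Function.Injective j :=
    Module.Flat.rTensor_preserves_injective_linearMap (M := B) D.val.toLinearMap Subtype.val_injective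
  -- denominators
  have hden : ∀ z : K ⊗[A] B, ∃ (a : D) (b : N), (a : K) ≠ 0 ∧ j (a ⊗ₜ 1) * z = j b := fun z => by
    induction z using TensorProduct.induction_on with
    | zero => exact ⟨1, 0, one_ne_zero, by simp⟩
    | tmul x y =>
      obtain ⟨a, ha, hx⟩ := hK x
      refine ⟨algebraMap A D a, (⟨_, hx⟩ : D) ⊗ₜ y, ha, ?_⟩
      show D.val (algebraMap A D a) ⊗ₜ[A] (1 : B) * x ⊗ₜ[A] y = _
      rw [Algebra.TensorProduct.tmul_mul_tmul, one_mul]
      rfl
    | add u v hu hv =>
      obtain ⟨a, b, ha, hb⟩ := hu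
      obtain ⟨a', b', ha', hb'⟩ := hv
      refine ⟨a * a', (a' ⊗ₜ 1) * b + (a ⊗ₜ 1) * b', mul_ne_zero ha ha', ?_⟩
      rw [show (a * a') ⊗ₜ[A] (1 : B) = (a ⊗ₜ 1) * (a' ⊗ₜ 1) by simp, map_mul, map_add, map_mul, map_mul, ← hb, ← hb']
      ring
  obtain ⟨a, b, ha, hb⟩ := hden e
  -- the constants
  letI algK : Algebra k K := ((algebraMap A K).comp (algebraMap k A)).toAlgebra
  haveI : IsScalarTower k A K := .of_algebraMap_eq fun _ => rfl
  let σ : AlgebraicClosure k →ₐ[k] K := IsAlgClosed.lift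
  have hσ : ∀ x, σ x ∈ D := fun x => ((Algebra.IsIntegral.isIntegral (R := k) x).map σ).tower_top
  let σ' : AlgebraicClosure k →+* D := σ.toRingHom.codRestrict D.toSubring hσ
  letI : Algebra (AlgebraicClosure k) D := σ'.toAlgebra
  haveI : IsScalarTower k (AlgebraicClosure k) D := .of_algebraMap_eq fun x => Subtype.ext (σ.commutes x).symm
  obtain ⟨φ, hφ, hwe⟩ := exists_weaklyEtale_prod k A R B D
  letI : Algebra (D ⊗[k] R) N := φ.toAlgebra
  haveI : Algebra.WeaklyEtale (D ⊗[k] R) N := hwe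
  have ha' : ∀ n : ℕ, ((a : K) ^ n) ≠ 0 := fun n => pow_ne_zero n ha
  obtain ⟨S₀, _, π, hπ, hnil, hdc⟩ := exists_divClosed_cover (AlgebraicClosure k) (k := k) (R := R) (a := a)
    (fun h => ha (congrArg Subtype.val h)) fun n p hp d hd => by
    let y : K := (d : K) / (a : K) ^ n
    have hy : IsIntegral D y := by
      refine ⟨p, hp, (mul_right_injective₀ (pow_ne_zero p.natDegree (ha' n))) ?_⟩
      have h1 := scaleRoots_eval₂_mul (p := p) (algebraMap D K) y (a ^ n)
      have h2 : algebraMap D K (a ^ n) * y = algebraMap D K d := mul_div_cancel₀ _ (ha' n)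
      rw [h2, eval₂_at_apply, hd, map_zero] at h1
      show (algebraMap D K (a ^ n)) ^ p.natDegree * _ = (algebraMap D K (a ^ n)) ^ p.natDegree * 0
      rw [← h1, mul_zero]
    refine ⟨⟨y, isIntegral_trans (R := A) _ hy⟩, Subtype.ext ?_⟩
    show (d : K) = (a : K) ^ n * y
    exact (mul_div_cancel₀ _ (ha' n)).symm
  letI : Algebra (D ⊗[k] R) S₀ := π.toAlgebra
  have hφa : algebraMap (D ⊗[k] R) N (a ⊗ₜ 1) = a ⊗ₜ[A] 1 := hφ a
  refine idem_of_divClosed (S := D ⊗[k] R) (S₀ := S₀) hπ hnil j.toRingHom hj he hdc ?_ (b := b) ?_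
  · show IsUnit (j (algebraMap (D ⊗[k] R) N (a ⊗ₜ 1)))
    rw [hφa, show j (a ⊗ₜ[A] 1) = (Algebra.TensorProduct.includeLeft : K →ₐ[A] K ⊗[A] B) (a : K) from rfl]
    exact (isUnit_iff_ne_zero.2 ha).map _
  · show j (algebraMap (D ⊗[k] R) N (a ⊗ₜ 1)) * e = j b
    rw [hφa]
    exact hb

end Groth.Agent.EtDerLib.ZeroAcyc
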