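import Groth.Agent.EtDerLib.ZeroAcyc.FlatConn
import Groth.Agent.EtDerLib.ZeroAcyc.StrictFieldConn
import Groth.Agent.Hensel.Henselization
import Mathlib.RingTheory.TensorProduct.Quotient

/-! # Strict localizations over a base with nil maximal ideal -/

set_option autoImplicit false
set_option linter.style.haveILetI false
set_option backward.isDefEq.respectTransparency.types false

universe u

open CategoryTheory CategoryTheory.Limits AlgebraicGeometry
open scoped TensorProduct

noncomputable section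

namespace Groth.Agent.EtDerLib.ZeroAcyc

theorem henselian_quotient {A : Type u} [CommRing A] [HenselianLocalRing A] [IsSepClosed (IsLocalRing.ResidueField A)]
    (I : Ideal A) (hI : I ≠ ⊤) :
    ∃ _ : HenselianLocalRing (A ⧸ I), IsSepClosed (IsLocalRing.ResidueField (A ⧸ I)) := by
  haveI : Nontrivial (A ⧸ I) := Ideal.Quotient.nontrivial_iff.2 hI
  haveI : IsLocalRing (A ⧸ I) := IsLocalRing.of_surjective' _ Ideal.Quotient.mk_surjective
  haveI : IsLocalHom (Ideal.Quotient.mk I) := Ideal.Quotient.mk_surjective.isLocalHom _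
  refine ⟨⟨fun f hf b₀ h0 h1 => ?_⟩, ?_⟩
  · obtain ⟨F, hF, -, hFm⟩ := Polynomial.lifts_and_natDegree_eq_and_monic
      ((Polynomial.mem_lifts f).2 (Polynomial.map_surjective _ Ideal.Quotient.mk_surjective f)) hf
    obtain ⟨a₀, rfl⟩ := Ideal.Quotient.mk_surjective b₀
    rw [← hF, Polynomial.eval_map, Polynomial.eval₂_at_apply] at h0
    rw [← hF, Polynomial.derivative_map, Polynomial.eval_map, Polynomial.eval₂_at_apply] at h1
    obtain ⟨a, ha, ha'⟩ := HenselianLocalRing.is_henselian F hFm a₀
      (fun hu => h0 (hu.map (Ideal.Quotient.mk I))) ((isUnit_map_iff (Ideal.Quotient.mk I) _).1 h1)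
    refine ⟨Ideal.Quotient.mk I a, ?_, ?_⟩
    · rw [Polynomial.IsRoot.def, ← hF, Polynomial.eval_map, Polynomial.eval₂_at_apply, ha.eq_zero, map_zero]
    · rw [← map_sub]
      exact fun hu => ha' ((isUnit_map_iff (Ideal.Quotient.mk I) _).1 hu)
  · refine Hensel.isSepClosed_of_ringEquiv (RingEquiv.ofBijective
      (IsLocalRing.ResidueField.map (Ideal.Quotient.mk I)) ⟨RingHom.injective _, fun x => ?_⟩)
    obtain ⟨b, rfl⟩ := IsLocalRing.residue_surjective x
    obtain ⟨a, rfl⟩ := Ideal.Quotient.mk_surjective b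
    exact ⟨IsLocalRing.residue A a, rfl⟩

/-- quotients of weakly étale algebras -/
theorem weaklyEtale_of_surjective {T T' S B : Type u} [CommRing T] [CommRing T'] [CommRing S] [CommRing B]
    [Algebra T S] [Algebra.WeaklyEtale T S] [Algebra T T'] (hT : Function.Surjective (algebraMap T T'))
    [Algebra T' B] (ρ : S →+* B) (hρ : Function.Surjective ρ)
    (hc : (algebraMap T' B).comp (algebraMap T T') = ρ.comp (algebraMap T S))
    (hker : RingHom.ker ρ ≤ (RingHom.ker (algebraMap T T')).map (algebraMap T S)) :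
    Algebra.WeaklyEtale T' B := by
  letI : Algebra T B := (ρ.comp (algebraMap T S)).toAlgebra
  haveI : IsScalarTower T T' B := .of_algebraMap_eq fun x => (RingHom.congr_fun hc x).symm
  let ρ' : S →ₐ[T] B := { ρ with commutes' := fun _ => rfl }
  let g : T' ⊗[T] S →ₐ[T'] B := Algebra.TensorProduct.lift (Algebra.ofId T' B) ρ' (fun _ _ => Commute.all _ _)
  have hg : ∀ z : S, g (1 ⊗ₜ z) = ρ z := fun z => by
    rw [Algebra.TensorProduct.lift_tmul, map_one, one_mul]
    rfl
  have hsurj : ∀ w : T' ⊗[T] S, ∃ z : S, w = 1 ⊗ₜ z := fun w => by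
    induction w using TensorProduct.induction_on with
    | zero => exact ⟨0, by simp⟩
    | tmul x y =>
      obtain ⟨t, rfl⟩ := hT x
      exact ⟨t • y, by rw [← TensorProduct.smul_tmul, Algebra.algebraMap_eq_smul_one]⟩
    | add u v hu hv =>
      obtain ⟨x, rfl⟩ := hu
      obtain ⟨y, rfl⟩ := hv
      exact ⟨x + y, (TensorProduct.tmul_add _ _ _).symm⟩
  refine weaklyEtale_of_algEquiv (AlgEquiv.ofBijective g ⟨(injective_iff_map_eq_zero g).2 fun w hw => ?_, fun b => ?_⟩)
  · obtain ⟨z, rfl⟩ := hsurj w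
    rw [hg] at hw
    have hle : (RingHom.ker (algebraMap T T')).map (algebraMap T S) ≤
        RingHom.ker (Algebra.TensorProduct.includeRight : S →ₐ[T] T' ⊗[T] S) :=
      Ideal.map_le_iff_le_comap.2 fun t ht => by
        show (Algebra.TensorProduct.includeRight : S →ₐ[T] T' ⊗[T] S) (algebraMap T S t) = 0
        rw [AlgHom.commutes, IsScalarTower.algebraMap_apply T T' (T' ⊗[T] S), RingHom.mem_ker.1 ht, map_zero]
    exact hle (hker (RingHom.mem_ker.2 hw))
  · obtain ⟨z, rfl⟩ := hρ b
    exact ⟨1 ⊗ₜ z, hg z⟩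

attribute [local instance] Algebra.TensorProduct.rightAlgebra in
/-- quotients as pullbacks -/
theorem isPullback_quot (R S : Type u) [CommRing R] [CommRing S] [Algebra R S] (I : Ideal R) :
    IsPullback (Spec.map (CommRingCat.ofHom (Ideal.Quotient.mk (I.map (algebraMap R S)))))
      (Spec.map (CommRingCat.ofHom (Ideal.quotientMap (I.map (algebraMap R S)) (algebraMap R S) Ideal.le_comap_map)))
      (Spec.map (CommRingCat.ofHom (algebraMap R S))) (Spec.map (CommRingCat.ofHom (Ideal.Quotient.mk I))) := by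
  letI : Algebra (R ⧸ I) (S ⧸ I.map (algebraMap R S)) :=
    (Ideal.quotientMap (I.map (algebraMap R S)) (algebraMap R S) Ideal.le_comap_map).toAlgebra
  haveI : IsScalarTower R (R ⧸ I) (S ⧸ I.map (algebraMap R S)) := .of_algebraMap_eq fun _ => rfl
  haveI : Algebra.IsPushout R S (R ⧸ I) (S ⧸ I.map (algebraMap R S)) :=
    Algebra.IsPushout.of_equiv (Algebra.TensorProduct.quotIdealMapEquivTensorQuot S I).symm
      (RingHom.ext fun a => by
        obtain ⟨r, rfl⟩ := Ideal.Quotient.mk_surjective a
        show (Algebra.TensorProduct.quotIdealMapEquivTensorQuot S I).symm ((1 : S) ⊗ₜ[R] Ideal.Quotient.mk I r) = _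
        refine (AlgEquiv.symm_apply_eq _).2 ?_
        show (1 : S) ⊗ₜ[R] algebraMap R (R ⧸ I) r = algebraMap R S r ⊗ₜ[R] (1 : R ⧸ I)
        exact (Algebra.TensorProduct.tmul_one_eq_one_tmul r).symm)
  exact isPullback_SpecMap_of_isPushout _ _ _ _ (CommRingCat.isPushout_iff_isPushout.2 inferInstance)

/-- points in algebraically closed fields of an affine scheme -/
theorem exists_closurePt_Spec (A : Type u) [CommRing A] (p : ↥(Spec (CommRingCat.of A))) :
    ∃ φ : A →+* AlgebraicClosure ((Spec (CommRingCat.of A)).residueField p),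
      closurePt (Spec (CommRingCat.of A)) p = Spec.map (CommRingCat.ofHom φ) ∧
      ∀ z, ∃ a, φ a ≠ 0 ∧ φ.IsIntegralElem (φ a * z) := by
  let L := (Spec (CommRingCat.of A)).residueField p
  let Ω := AlgebraicClosure L
  let e := Scheme.Spec.residueFieldIso (CommRingCat.of A) p
  let ψ : A →+* L := (CommRingCat.ofHom (algebraMap A p.asIdeal.ResidueField) ≫ e.inv).hom
  refine ⟨(algebraMap L Ω).comp ψ, ?_, fun z => ?_⟩
  · rw [show CommRingCat.ofHom ((algebraMap L Ω).comp ψ) =
      (CommRingCat.ofHom (algebraMap A p.asIdeal.ResidueField) ≫ e.inv) ≫ CommRingCat.ofHom (algebraMap L Ω) from rfl,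
      Spec.map_comp, Spec.map_comp, Scheme.Spec.map_residueFieldIso_inv_eq_fromSpecResidueField]
    rfl
  · classical
    letI : Algebra A L := ψ.toAlgebra
    have hker : ∀ a : A, ψ a = 0 ↔ a ∈ p.asIdeal := fun a => by
      rw [← Ideal.algebraMap_residueField_eq_zero (I := p.asIdeal)]
      exact map_eq_zero_iff e.inv.hom (ConcreteCategory.bijective_of_isIso e.inv).1
    letI : Algebra (A ⧸ p.asIdeal) L := (Ideal.Quotient.lift p.asIdeal ψ fun a ha => (hker a).2 ha).toAlgebra
    haveI : IsScalarTower A (A ⧸ p.asIdeal) L := .of_algebraMap_eq fun _ => rfl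
    have halg : Algebra.IsAlgebraic (A ⧸ p.asIdeal) L := by
      refine ⟨fun l => ?_⟩
      obtain ⟨a, b, hb, hab⟩ := IsFractionRing.div_surjective (A := A ⧸ p.asIdeal) (e.hom l)
      obtain ⟨a', rfl⟩ := Ideal.Quotient.mk_surjective a
      obtain ⟨b', rfl⟩ := Ideal.Quotient.mk_surjective b
      refine ⟨Polynomial.C (Ideal.Quotient.mk p.asIdeal b') * Polynomial.X - Polynomial.C (Ideal.Quotient.mk p.asIdeal a'),
        fun h => nonZeroDivisors.ne_zero hb ?_, ?_⟩
      · have h1 := congrArg (fun q => Polynomial.coeff q 1) h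
        simpa using h1
      · have h2 : algebraMap A p.asIdeal.ResidueField b' * e.hom l = algebraMap A p.asIdeal.ResidueField a' := by
          rw [← hab]
          exact mul_div_cancel₀ _ (IsFractionRing.to_map_ne_zero_of_mem_nonZeroDivisors (R := A ⧸ p.asIdeal) hb)
        have h3 := congrArg e.inv.hom h2
        rw [map_mul, e.hom_inv_id_apply] at h3
        rw [map_sub, map_mul, Polynomial.aeval_C, Polynomial.aeval_C, Polynomial.aeval_X, sub_eq_zero]
        exact h3
    haveI : IsScalarTower A (A ⧸ p.asIdeal) Ω := .of_algebraMap_eq fun _ => rfl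
    haveI : IsDomain (A ⧸ p.asIdeal) := inferInstance
    obtain ⟨a, ha, hint⟩ := ((Algebra.IsAlgebraic.trans (A ⧸ p.asIdeal) L Ω).isAlgebraic z).exists_integral_multiple
    obtain ⟨a, rfl⟩ := Ideal.Quotient.mk_surjective a
    refine ⟨a, fun h => ha (Ideal.Quotient.eq_zero_iff_mem.2 ((hker a).1 ?_)), ?_⟩
    · exact (algebraMap L Ω).injective (h.trans (map_zero _).symm)
    · rw [Algebra.smul_def] at hint
      exact isIntegral_trans (R := A) _ hint

/-- Strict localizations over a local base with nil maximal ideal descend clopen sets. -/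
theorem clopenDesc_of_nilBase (O C RY RX : Type u) [CommRing O] [IsLocalRing O]
    (hnil : ∀ a ∈ IsLocalRing.maximalIdeal O, IsNilpotent a) [CommRing C] [Algebra O C]
    [CommRing RY] [Algebra O RY] [IsLocalHom (algebraMap O RY)] [HenselianLocalRing RY]
    [IsSepClosed (IsLocalRing.ResidueField RY)] [CommRing RX] [IsLocalRing RX] [Algebra RY RX]
    [IsLocalHom (algebraMap RY RX)] [Algebra (RY ⊗[O] C) RX] [IsScalarTower RY (RY ⊗[O] C) RX]
    [Algebra.WeaklyEtale (RY ⊗[O] C) RX] :
    ClopenDesc (Spec.map (CommRingCat.ofHom (algebraMap RY RX))) ∧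
      Function.Surjective (Spec.map (CommRingCat.ofHom (algebraMap RY RX))).base := by
  let m := IsLocalRing.maximalIdeal O
  let J : Ideal RY := m.map (algebraMap O RY)
  let JX : Ideal RX := J.map (algebraMap RY RX)
  let JC : Ideal C := m.map (algebraMap O C)
  have hJnil : J ≤ nilradical RY := Ideal.map_le_iff_le_comap.2 fun a ha => (hnil a ha).map _
  have hJ : J ≠ ⊤ := fun h => one_ne_zero (IsNilpotent.eq_zero (x := (1 : IsLocalRing.ResidueField RY))
    (by
      have h1 : IsNilpotent (1 : RY) := hJnil (h ▸ Submodule.mem_top)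
      simpa using h1.map (IsLocalRing.residue RY)))
  have hJXnil : JX ≤ nilradical RX := Ideal.map_le_iff_le_comap.2 fun a ha => IsNilpotent.map (hJnil ha) _
  have hJX : JX ≠ ⊤ := fun h => one_ne_zero (IsNilpotent.eq_zero (x := (1 : IsLocalRing.ResidueField RX))
    (by
      have h1 : IsNilpotent (1 : RX) := hJXnil (h ▸ Submodule.mem_top)
      simpa using h1.map (IsLocalRing.residue RX)))
  let A := RY ⧸ J
  let B := RX ⧸ JX
  let k := O ⧸ m
  let C' := C ⧸ JC
  letI : Field k := Ideal.Quotient.field m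
  obtain ⟨_, _⟩ := henselian_quotient J hJ
  haveI : Nontrivial B := Ideal.Quotient.nontrivial_iff.2 hJX
  haveI : IsLocalRing B := IsLocalRing.of_surjective' _ (Ideal.Quotient.mk_surjective (I := JX))
  haveI : IsLocalHom (Ideal.Quotient.mk JX) := Ideal.Quotient.mk_surjective.isLocalHom _
  letI algAB : Algebra A B := (Ideal.quotientMap JX (algebraMap RY RX) Ideal.le_comap_map).toAlgebra
  haveI : IsLocalHom (algebraMap A B) := ⟨fun a ha => by
    obtain ⟨r, rfl⟩ := Ideal.Quotient.mk_surjective a
    exact ((isUnit_map_iff (algebraMap RY RX) r).1 ((isUnit_map_iff (Ideal.Quotient.mk JX) _).1 ha)).map _⟩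
  letI : Algebra k A := (Ideal.quotientMap J (algebraMap O RY) Ideal.le_comap_map).toAlgebra
  letI : Algebra k C' := (Ideal.quotientMap JC (algebraMap O C) Ideal.le_comap_map).toAlgebra
  haveI : IsScalarTower O k A := .of_algebraMap_eq fun _ => rfl
  haveI : IsScalarTower O k C' := .of_algebraMap_eq fun _ => rfl
  let π : RY ⊗[O] C →ₐ[O] A ⊗[k] C' :=
    Algebra.TensorProduct.lift ((Algebra.TensorProduct.includeLeft : A →ₐ[k] A ⊗[k] C').restrictScalars O
        |>.comp (Ideal.Quotient.mkₐ O J))
      ((Algebra.TensorProduct.includeRight : C' →ₐ[k] A ⊗[k] C').restrictScalars O |>.comp (Ideal.Quotient.mkₐ O JC))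
      (fun _ _ => Commute.all _ _)
  have hπ : ∀ (r : RY) (c : C), π (r ⊗ₜ c) = Ideal.Quotient.mk J r ⊗ₜ[k] Ideal.Quotient.mk JC c := fun r c => by
    simp [π]
    rfl
  letI : Algebra (RY ⊗[O] C) (A ⊗[k] C') := π.toRingHom.toAlgebra
  let ρ : RX →+* B := Ideal.Quotient.mk JX
  have hρ : ∀ r : RY, ρ (algebraMap RY RX r) = algebraMap A B (Ideal.Quotient.mk J r) := fun _ => rfl
  let χ : C →+* B := ρ.comp ((algebraMap (RY ⊗[O] C) RX).comp Algebra.TensorProduct.includeRight.toRingHom)
  have hχO : ∀ o : O, χ (algebraMap O C o) = algebraMap A B (Ideal.Quotient.mk J (algebraMap O RY o)) := fun o => by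
    rw [← hρ]
    show ρ (algebraMap (RY ⊗[O] C) RX ((Algebra.TensorProduct.includeRight : C →ₐ[O] RY ⊗[O] C) (algebraMap O C o))) = _
    rw [AlgHom.commutes, IsScalarTower.algebraMap_apply O RY (RY ⊗[O] C), ← IsScalarTower.algebraMap_apply RY (RY ⊗[O] C) RX]
  letI : Algebra k B := ((algebraMap A B).comp (algebraMap k A)).toAlgebra
  haveI : IsScalarTower k A B := .of_algebraMap_eq fun _ => rfl
  let ψ : C' →ₐ[k] B :=
    { toRingHom := Ideal.Quotient.lift JC χ (fun c hc => RingHom.mem_ker.1 ((Ideal.map_le_iff_le_comap.2 fun o ho => by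
          show χ (algebraMap O C o) = 0
          rw [hχO, Ideal.Quotient.eq_zero_iff_mem.2 (Ideal.mem_map_of_mem _ ho), map_zero] : JC ≤ RingHom.ker χ) hc))
      commutes' := fun o => by
        obtain ⟨o, rfl⟩ := Ideal.Quotient.mk_surjective o
        exact hχO o }
  let φ : A ⊗[k] C' →ₐ[A] B := Algebra.TensorProduct.lift (Algebra.ofId A B) ψ (fun _ _ => Commute.all _ _)
  letI : Algebra (A ⊗[k] C') B := φ.toRingHom.toAlgebra
  haveI : IsScalarTower A (A ⊗[k] C') B := .of_algebraMap_eq fun a => (φ.commutes a).symm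
  haveI : Algebra.WeaklyEtale (A ⊗[k] C') B := by
    refine weaklyEtale_of_surjective (T := RY ⊗[O] C) ?_ ρ Ideal.Quotient.mk_surjective ?_ ?_
    · intro w
      induction w using TensorProduct.induction_on with
      | zero => exact ⟨0, map_zero π⟩
      | tmul x y =>
        obtain ⟨x, rfl⟩ := Ideal.Quotient.mk_surjective x
        obtain ⟨y, rfl⟩ := Ideal.Quotient.mk_surjective y
        exact ⟨x ⊗ₜ y, hπ x y⟩
      | add u v hu hv =>
        obtain ⟨u', rfl⟩ := hu
        obtain ⟨v', rfl⟩ := hv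
        exact ⟨u' + v', map_add π _ _⟩
    · refine RingHom.ext fun t => ?_
      show φ (π t) = ρ (algebraMap (RY ⊗[O] C) RX t)
      induction t using TensorProduct.induction_on with
      | zero => simp
      | tmul r c =>
        rw [hπ, Algebra.TensorProduct.lift_tmul, show (r ⊗ₜ[O] c : RY ⊗[O] C) = algebraMap RY (RY ⊗[O] C) r *
          (Algebra.TensorProduct.includeRight : C →ₐ[O] RY ⊗[O] C) c by simp [Algebra.TensorProduct.algebraMap_apply],
          map_mul, map_mul, ← IsScalarTower.algebraMap_apply]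
        rfl
      | add u v hu hv => rw [map_add, map_add, map_add, map_add, hu, hv]
    · rw [Ideal.mk_ker]
      refine Ideal.map_le_iff_le_comap.2 fun r hr => ?_
      rw [Ideal.mem_comap, IsScalarTower.algebraMap_apply RY (RY ⊗[O] C) RX]
      refine Ideal.mem_map_of_mem _ (RingHom.mem_ker.2 ?_)
      show π (r ⊗ₜ[O] 1) = 0
      rw [hπ, Ideal.Quotient.eq_zero_iff_mem.2 hr, TensorProduct.zero_tmul]
  haveI : Module.Flat A B := Module.Flat.trans A (A ⊗[k] C') B
  -- the reduction
  let g₀ := Spec.map (CommRingCat.ofHom (algebraMap A B))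
  haveI : Flat g₀ := (HasRingHomProperty.Spec_iff (P := @Flat)).2 (RingHom.flat_algebraMap_iff.2 inferInstance)
  have hg₀ := clopenDesc_of_flat g₀ fun p => by
    obtain ⟨φ, hφ, hK⟩ := exists_closurePt_Spec A p
    letI := φ.toAlgebra
    haveI := connectedSpace_tensor_algClosed k A C' B (AlgebraicClosure ((Spec (CommRingCat.of A)).residueField p)) hK
    have e := pullbackSymmetry g₀ (closurePt (Spec (CommRingCat.of A)) p) ≪≫ pullback.congrHom hφ rfl ≪≫
      pullbackSpecIso A (AlgebraicClosure ((Spec (CommRingCat.of A)).residueField p)) B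
    exact e.hom.homeomorph.connectedSpace_iff.2 (inferInstanceAs
      (ConnectedSpace (PrimeSpectrum (AlgebraicClosure ((Spec (CommRingCat.of A)).residueField p) ⊗[A] B))))
  let c : Spec (CommRingCat.of A) ⟶ Spec (CommRingCat.of RY) := Spec.map (CommRingCat.ofHom (Ideal.Quotient.mk J))
  haveI : IsClosedImmersion c := IsClosedImmersion.spec_of_surjective _ Ideal.Quotient.mk_surjective
  haveI : Surjective c := ⟨fun q => ⟨⟨q.asIdeal.map (Ideal.Quotient.mk J),
      Ideal.map_isPrime_of_surjective Ideal.Quotient.mk_surjective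
        (by rw [Ideal.mk_ker]; exact hJnil.trans (nilradical_le_prime _))⟩,
    PrimeSpectrum.ext (by
      show (q.asIdeal.map (Ideal.Quotient.mk J)).comap (Ideal.Quotient.mk J) = q.asIdeal
      rw [Ideal.comap_map_of_surjective _ Ideal.Quotient.mk_surjective, ← RingHom.ker_eq_comap_bot, Ideal.mk_ker,
        sup_eq_left]
      exact hJnil.trans (nilradical_le_prime _))⟩⟩
  have sq := isPullback_quot RY RX J
  exact clopenDesc_of_thickening sq hg₀.1 hg₀.2

end Groth.Agent.EtDerLib.ZeroAcyc
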