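import Groth.Agent.WEtLib.Normal
import Groth.Agent.S0736
import Mathlib.RingTheory.Jacobson.Ring
import Mathlib.RingTheory.TensorProduct.Free
import Mathlib.LinearAlgebra.TensorProduct.RightExactness
import Mathlib.RingTheory.Flat.TorsionFree

/-! # Division by a constant in tensor products with reduced algebras -/

set_option autoImplicit false
set_option linter.style.haveILetI false

universe u

open scoped TensorProduct
open Polynomial

noncomputable section

namespace Groth.Agent.EtDerLib.ZeroAcyc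

/-- A roots-of-scaled-polynomials form of integral closedness at `a`. -/
def DivClosed {S : Type u} [CommRing S] (a : S) : Prop :=
  IsLeftRegular a ∧ ∀ (n : ℕ) (p : S[X]), p.Monic → ∀ d : S, (p.scaleRoots (a ^ n)).eval d = 0 → a ^ n ∣ d

section points

variable {k : Type u} [Field k] [IsAlgClosed k] {R : Type u} [CommRing R] [Algebra k R] [IsReduced R]

theorem exists_point [Algebra.FiniteType k R] {r : R} (hr : r ≠ 0) : ∃ χ : R →ₐ[k] k, χ r ≠ 0 := by
  haveI : IsJacobsonRing R := isJacobsonRing_of_finiteType (A := k)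
  have h : r ∉ Ideal.jacobson (⊥ : Ideal R) := by
    rw [← isJacobsonRing_iff_prime_eq.1 ‹_› |> fun h => (Ideal.radical_eq_jacobson (⊥ : Ideal R))]
    exact fun ⟨n, hn⟩ => hr (IsReduced.eq_zero r ⟨n, hn⟩)
  rw [Ideal.jacobson, Submodule.mem_sInf] at h
  push Not at h
  obtain ⟨m, ⟨-, hm⟩, hrm⟩ := h
  haveI := hm
  letI : Field (R ⧸ m) := Ideal.Quotient.field m
  haveI : Algebra.FiniteType k (R ⧸ m) := inferInstance
  haveI : Module.Finite k (R ⧸ m) := finite_of_finite_type_of_isJacobsonRing k (R ⧸ m)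
  let e : k ≃ₐ[k] R ⧸ m := AlgEquiv.ofBijective (Algebra.ofId k (R ⧸ m))
    IsAlgClosed.algebraMap_bijective_of_isIntegral
  refine ⟨e.symm.toAlgHom.comp (Ideal.Quotient.mkₐ k m), fun h0 => hrm (Ideal.Quotient.eq_zero_iff_mem.1 ?_)⟩
  have := congrArg e h0
  simpa using this

variable {D : Type u} [CommRing D] [Algebra k D]

/-- a linear map killing the divisible elements kills what is divisible at all points -/
theorem dvd_of_points [Algebra.FiniteType k R] (a : D) (z : D ⊗[k] R)
    (h : ∀ χ : R →ₐ[k] k, a ∣ Algebra.TensorProduct.rid k k D (Algebra.TensorProduct.map (AlgHom.id k D) χ z)) :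
    (a ⊗ₜ[k] (1 : R)) ∣ z := by
  classical
  let mul : D →ₗ[k] D := LinearMap.mulLeft k a
  let Q := D ⧸ LinearMap.range mul
  let π : D →ₗ[k] Q := (LinearMap.range mul).mkQ
  have hex : Function.Exact (mul.rTensor R) (π.rTensor R) :=
    rTensor_exact R (LinearMap.exact_map_mkQ_range mul) (Submodule.mkQ_surjective _)
  have hz : π.rTensor R z = 0 := by
    let b := Module.Basis.ofVectorSpace k Q
    have hcoord : ∀ i, TensorProduct.lid k R ((b.coord i).rTensor R (π.rTensor R z)) = 0 := fun i => by
      by_contra hne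
      obtain ⟨χ, hχ⟩ := exists_point (k := k) hne
      refine hχ ?_
      have e : ∀ w : D ⊗[k] R, χ (TensorProduct.lid k R ((b.coord i).rTensor R (π.rTensor R w))) =
          b.coord i (π (Algebra.TensorProduct.rid k k D (Algebra.TensorProduct.map (AlgHom.id k D) χ w))) := fun w => by
        induction w using TensorProduct.induction_on with
        | zero => simp
        | tmul x y => simp [mul_comm]
        | add u v hu hv => simp only [map_add, hu, hv]
      rw [e]
      obtain ⟨c, hc⟩ := h χ
      rw [hc]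
      have : π (a * c) = 0 := (Submodule.Quotient.mk_eq_zero _).2 ⟨c, rfl⟩
      rw [this, map_zero]
    have hsum : ∀ w : Q ⊗[k] R, (∀ i, TensorProduct.lid k R ((b.coord i).rTensor R w) = 0) → w = 0 := fun w hw => by
      obtain ⟨c, rfl⟩ := (TensorProduct.eq_repr_basis_left b) w
      have hc : c = 0 := Finsupp.ext fun i => by
        have h2 := hw i
        rw [Finsupp.sum, map_sum, map_sum, Finset.sum_eq_single i] at h2
        · simpa using h2
        · intro j _ hji
          simp [Finsupp.single_eq_of_ne' hji]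
        · intro hi
          simp [Finsupp.notMem_support_iff.1 hi]
      simp [hc]
    exact hsum _ hcoord
  obtain ⟨w, hw⟩ := (hex z).1 hz
  refine ⟨w, hw.symm.trans ?_⟩
  clear hw
  induction w using TensorProduct.induction_on with
  | zero => simp
  | tmul x y => simp [mul]
  | add u v hu hv => rw [map_add, hu, hv, mul_add]

omit [IsAlgClosed k] [IsReduced R] in
theorem isLeftRegular_tmul_one [IsDomain D] {a : D} (ha : a ≠ 0) : IsLeftRegular (a ⊗ₜ[k] (1 : R)) := by
  have hinj : Function.Injective ((LinearMap.mulLeft k a).rTensor R) :=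
    Module.Flat.rTensor_preserves_injective_linearMap _ (mul_right_injective₀ ha)
  have e : ∀ w : D ⊗[k] R, (LinearMap.mulLeft k a).rTensor R w = (a ⊗ₜ[k] (1 : R)) * w := fun w => by
    induction w using TensorProduct.induction_on with
    | zero => simp
    | tmul x y => simp
    | add u v hu hv => rw [map_add, hu, hv, mul_add]
  exact fun x y h => hinj (by rw [e, e]; exact h)

omit [IsAlgClosed k] [IsReduced R] in
theorem exists_fg_lift (z : D ⊗[k] R) :
    ∃ s : Finset R, ∀ S : Subalgebra k R, (↑s : Set R) ⊆ S →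
      z ∈ Set.range (Algebra.TensorProduct.map (AlgHom.id k D) S.val) := by
  classical
  induction z using TensorProduct.induction_on with
  | zero => exact ⟨∅, fun S _ => ⟨0, map_zero _⟩⟩
  | tmul x y => exact ⟨{y}, fun S hS => ⟨x ⊗ₜ ⟨y, hS (Finset.mem_singleton_self y)⟩, rfl⟩⟩
  | add u v hu hv =>
    obtain ⟨s, hs⟩ := hu
    obtain ⟨t, ht⟩ := hv
    refine ⟨s ∪ t, fun S hS => ?_⟩
    obtain ⟨u', hu'⟩ := hs S (fun x hx => hS (Finset.mem_union_left _ hx))
    obtain ⟨v', hv'⟩ := ht S (fun x hx => hS (Finset.mem_union_right _ hx))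
    exact ⟨u' + v', by rw [map_add, hu', hv']⟩

/-- A normal domain tensor a reduced algebra over an algebraically closed field. -/
theorem divClosed_tensor [IsDomain D] {a : D} (ha : a ≠ 0)
    (hD : ∀ (n : ℕ) (p : D[X]), p.Monic → ∀ d : D, (p.scaleRoots (a ^ n)).eval d = 0 → a ^ n ∣ d) :
    DivClosed (a ⊗ₜ[k] (1 : R)) := by
  classical
  refine ⟨isLeftRegular_tmul_one ha, fun n p hp d hd => ?_⟩
  rw [Algebra.TensorProduct.tmul_pow, one_pow] at hd ⊢
  choose s hs using fun z : D ⊗[k] R => exists_fg_lift z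
  let T := s d ∪ (Finset.range p.natDegree).biUnion fun i => s (p.coeff i)
  let S : Subalgebra k R := Algebra.adjoin k (T : Set R)
  haveI : Algebra.FiniteType k S := S.fg_iff_finiteType.1 ⟨T, rfl⟩
  haveI : IsReduced S := isReduced_of_injective S.val Subtype.val_injective
  let ι := Algebra.TensorProduct.map (AlgHom.id k D) S.val
  have hι : Function.Injective ι :=
    Module.Flat.lTensor_preserves_injective_linearMap (M := D) S.val.toLinearMap Subtype.val_injective
  obtain ⟨d', hd'⟩ := hs d S (fun x hx => Algebra.subset_adjoin (Finset.mem_union_left _ hx))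
  have hc : ∀ i : Fin p.natDegree, ∃ c, ι c = p.coeff i := fun i => hs (p.coeff i) S fun x hx =>
    Algebra.subset_adjoin (Finset.mem_union_right _ (Finset.mem_biUnion.2 ⟨i, Finset.mem_range.2 i.2, hx⟩))
  choose c hc using hc
  let q : (D ⊗[k] S)[X] := X ^ p.natDegree + ∑ i : Fin p.natDegree, C (c i) * X ^ (i : ℕ)
  have hdeg : (∑ i : Fin p.natDegree, C (c i) * X ^ (i : ℕ)).degree < (p.natDegree : WithBot ℕ) := by
    refine (degree_sum_le _ _).trans_lt ((Finset.sup_lt_iff (WithBot.bot_lt_coe _)).2 fun i _ => ?_)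
    exact (degree_C_mul_X_pow_le _ _).trans_lt (WithBot.coe_lt_coe.2 i.2)
  have hq : q.Monic := monic_X_pow_add hdeg
  have hmap : q.map ι.toRingHom = p := by
    conv_rhs => rw [hp.as_sum, Finset.sum_range fun i => C (p.coeff i) * X ^ i]
    simp only [q, Polynomial.map_add, Polynomial.map_pow, map_X, Polynomial.map_sum, Polynomial.map_mul, map_C]
    congr 1
    exact Finset.sum_congr rfl fun i _ => by rw [show ι.toRingHom (c i) = p.coeff i from hc i]
  have hd0 : (q.scaleRoots ((a ^ n) ⊗ₜ[k] (1 : S))).eval d' = 0 := by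
    refine hι ?_
    rw [map_zero]
    rcases subsingleton_or_nontrivial (D ⊗[k] R) with h | h
    · exact Subsingleton.elim _ _
    have hm := map_scaleRoots q ((a ^ n) ⊗ₜ[k] (1 : S)) ι.toRingHom (by rw [hq.leadingCoeff, map_one]; exact one_ne_zero)
    have h2 := Polynomial.eval_map_apply (p := q.scaleRoots ((a ^ n) ⊗ₜ[k] (1 : S))) (f := ι.toRingHom) d'
    rw [hm, hmap, show ι.toRingHom d' = d from hd',
      show ι.toRingHom ((a ^ n) ⊗ₜ[k] (1 : S)) = (a ^ n) ⊗ₜ[k] (1 : R) from rfl, hd] at h2
    exact h2.symm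
  obtain ⟨w, hw⟩ := dvd_of_points (a ^ n) d' fun χ => by
    let φ : D ⊗[k] S →ₐ[k] D := ((Algebra.TensorProduct.rid k k D).toAlgHom.restrictScalars k).comp
      (Algebra.TensorProduct.map (AlgHom.id k D) χ)
    show a ^ n ∣ φ d'
    refine hD n (q.map φ.toRingHom) (hq.map _) (φ d') ?_
    have e : φ.toRingHom ((a ^ n) ⊗ₜ[k] (1 : S)) = a ^ n := by simp [φ]
    rw [← e, ← map_scaleRoots q _ φ.toRingHom (by rw [hq.leadingCoeff, map_one]; exact one_ne_zero)]
    exact (Polynomial.eval_map_apply (f := φ.toRingHom) d').trans (by rw [hd0, map_zero])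
  exact ⟨ι w, by rw [← hd', hw, map_mul]; rfl⟩

end points

section etale

variable {S₀ : Type u} [CommRing S₀] {a : S₀}

theorem exists_of_idem_smooth (ha : DivClosed a) {N : Type u} [CommRing N] [Algebra S₀ N] [Algebra.Smooth S₀ N]
    {d : N} (h : d * d = algebraMap S₀ N a * d) : algebraMap S₀ N a ∣ d := by
  have := Algebra.Smooth.flat S₀ N
  let B := Localization.Away a
  let M := N ⊗[S₀] B
  let ι := algebraMap N M
  have hB : Function.Injective (algebraMap S₀ B) :=
    IsLocalization.injective B (Submonoid.powers_le.2 (mem_nonZeroDivisors_iff_right.2 fun x hx =>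
      ha.1 (show a * x = a * 0 by rw [mul_zero, mul_comm, hx])))
  let inv : B := IsLocalization.Away.invSelf a
  let y : M := d ⊗ₜ inv
  have hinv : algebraMap S₀ B a * inv = 1 := IsLocalization.Away.mul_invSelf a
  have hιd : ∀ x : N, ι x = x ⊗ₜ[S₀] (1 : B) := fun x => rfl
  have hy : ι (algebraMap S₀ N a) * y = ι d := by
    rw [hιd, hιd]
    refine (Algebra.TensorProduct.tmul_mul_tmul _ _ _ _).trans ?_
    rw [one_mul, show algebraMap S₀ N a * d = a • d from (Algebra.smul_def a d).symm, TensorProduct.smul_tmul,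
      Algebra.smul_def, hinv]
  have hu : IsUnit (ι (algebraMap S₀ N a)) := by
    rw [← IsScalarTower.algebraMap_apply S₀ N M,
      ← (Algebra.TensorProduct.includeRight : B →ₐ[S₀] M).commutes]
    exact (IsUnit.of_mul_eq_one _ hinv).map (Algebra.TensorProduct.includeRight : B →ₐ[S₀] M)
  have hint : IsIntegral N y := by
    refine ⟨X ^ 2 - X, by monicity!, ?_⟩
    refine hu.mul_right_eq_zero.1 (hu.mul_right_eq_zero.1 ?_)
    simp only [eval₂_sub, eval₂_pow, eval₂_X]
    have : ι d * ι d = ι (algebraMap S₀ N a) * ι d := by rw [← map_mul, h, map_mul]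
    rw [← hy] at this
    linear_combination this
  obtain ⟨w, hw⟩ := (TensorProduct.toIntegralClosure_bijective_of_smooth (R := S₀) (S := N) (B := B)).2 ⟨y, hint⟩
  replace hw : Algebra.TensorProduct.map (AlgHom.id N N) (integralClosure S₀ B).val w = y := congrArg Subtype.val hw
  have hmem : ∀ w, ∃ s : N, Algebra.TensorProduct.map (AlgHom.id N N) (integralClosure S₀ B).val w = ι s := fun w => by
    induction w with
    | zero => exact ⟨0, by simp⟩
    | tmul s z =>
      obtain ⟨b, hb⟩ : ∃ b, algebraMap S₀ B b = z.1 := by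
        obtain ⟨z, hz⟩ := z
        obtain ⟨n, d₀, hd₀⟩ := IsLocalization.Away.surj a z
        obtain ⟨p, hp, hpz⟩ := hz
        obtain ⟨c, hc⟩ := ha.2 n p hp d₀ (by
          refine hB ?_
          rw [map_zero]
          refine (eval₂_at_apply (algebraMap S₀ B) d₀).symm.trans ?_
          rw [← hd₀, mul_comm z, ← map_pow, scaleRoots_eval₂_mul, hpz, mul_zero])
        have hub : IsUnit (algebraMap S₀ B (a ^ n)) := by
          rw [map_pow]; exact (IsUnit.of_mul_eq_one _ hinv).pow n
        refine ⟨c, hub.mul_left_cancel ?_⟩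
        show algebraMap S₀ B (a ^ n) * algebraMap S₀ B c = algebraMap S₀ B (a ^ n) * z
        rw [← map_mul, ← hc, ← hd₀, map_pow, mul_comm]
      refine ⟨b • s, ?_⟩
      simp only [hιd, Algebra.TensorProduct.map_tmul, AlgHom.id_apply, Subalgebra.coe_val]
      rw [← hb, Algebra.algebraMap_eq_smul_one, TensorProduct.smul_tmul]
    | add u v hu hv =>
      obtain ⟨s, hs⟩ := hu
      obtain ⟨t, ht⟩ := hv
      exact ⟨s + t, by rw [map_add, hs, ht, map_add]⟩
  obtain ⟨s, hs⟩ := hmem w
  refine ⟨s, Algebra.TensorProduct.includeLeft_injective (S := S₀) hB ?_⟩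
  show ι d = ι (algebraMap S₀ N a * s)
  rw [map_mul, ← hs, hw, hy]

theorem exists_of_idem (ha : DivClosed a) {W : Type u} [CommRing W] [Algebra S₀ W] [Algebra.WeaklyEtale S₀ W]
    {d : W} (h : d * d = algebraMap S₀ W a * d) : algebraMap S₀ W a ∣ d := by
  classical
  obtain ⟨W', _, _, _, _, hff, -, hW'⟩ := WStrictLib.exists_indEtale_cover (A := S₀) (B := W)
  have hW : algebraMap S₀ W' a ∣ algebraMap W W' d := by
    obtain ⟨S, hS, ⟨e⟩⟩ := IndEtLib.exists_sys hW'
    obtain ⟨j, y, hy⟩ := S.exists_lift_finset (Finset.univ : Finset Unit) fun _ => e.symm (algebraMap W W' d)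
    let ρ : S.A j →ₐ[S₀] W' := e.toAlgHom.comp (S.ι j)
    have hρy : ρ (y ()) = algebraMap W W' d := by
      show e (S.ι j (y ())) = _
      rw [hy () (Finset.mem_univ _), e.apply_symm_apply]
    have h0 : S.ι j (y () * y () - algebraMap S₀ (S.A j) a * y ()) = 0 := by
      refine e.injective ?_
      show ρ _ = e 0
      rw [map_zero, map_sub, map_mul, map_mul, ρ.commutes, hρy, IsScalarTower.algebraMap_apply S₀ W W',
        ← map_mul, ← map_mul, h, sub_self]
    obtain ⟨k, f, hk⟩ := S.eq_zero h0
    haveI := hS k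
    rw [map_sub, sub_eq_zero, map_mul, map_mul, AlgHom.commutes] at hk
    obtain ⟨s, hs⟩ := exists_of_idem_smooth ha (N := S.A k) hk
    refine ⟨e (S.ι k s), ?_⟩
    have h3 := congrArg (fun z => e (S.ι k z)) hs
    simp only [map_mul, AlgHom.commutes, AlgEquiv.commutes] at h3
    rw [← h3, IndEtLib.Sys.ι_tr_apply]
    exact hρy.symm
  rw [IsScalarTower.algebraMap_apply S₀ W W', ← Ideal.mem_span_singleton, ← Set.image_singleton, ← Ideal.map_span,
    ← Ideal.mem_comap, Ideal.comap_map_eq_self_of_faithfullyFlat] at hW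
  exact Ideal.mem_span_singleton.1 hW

theorem isLeftRegular_map (ha : DivClosed a) {W : Type u} [CommRing W] [Algebra S₀ W] [Module.Flat S₀ W] :
    IsLeftRegular (algebraMap S₀ W a) := by
  intro x y hxy
  have h : IsSMulRegular W a := Module.Flat.isSMulRegular_of_nonZeroDivisors
    (mem_nonZeroDivisors_iff_right.2 fun z hz => ha.1 (show a * z = a * 0 by rw [mul_zero, mul_comm, hz]))
  exact h (by simpa [Algebra.smul_def] using hxy)

end etale

end Groth.Agent.EtDerLib.ZeroAcyc
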