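import Groth.Agent.EtDerLib.ZeroAcyc.Top
import Groth.Agent.EtDerLib.ZeroAcyc.Clopen
import Groth.Agent.BigSiteLib.EtDescSec.General
import Groth.Agent.AlgSpLib.EtLocalInst

/-! # Bijective units from descent of clopen sets -/

set_option autoImplicit false
set_option linter.style.haveILetI false
set_option backward.isDefEq.respectTransparency.types false

universe u

open CategoryTheory CategoryTheory.Limits AlgebraicGeometry Opposite TopologicalSpace

noncomputable section

namespace Groth.Agent.EtDerLib.ZeroAcyc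

open BigSiteLib.DescSec

variable {P S : Scheme.{u}}

theorem side_eq_scheme {W : Scheme.{u}} [IsAffine W] {π : P ⟶ W} [QuasiCompact π] [QuasiSeparated π]
    (hcd : ClopenDesc π) (b w : W) (O₁ O₂ : Set P) (h₁ : IsOpen O₁) (h₂ : IsOpen O₂)
    (hcov : ∀ z, b ⤳ π.base z → π.base z ⤳ w → z ∈ O₁ ∨ z ∈ O₂)
    (hdis : ∀ z, b ⤳ π.base z → π.base z ⤳ w → z ∈ O₁ → z ∈ O₂ → False)
    (z z' : P) (hzb : b ⤳ π.base z) (hzw : π.base z ⤳ w) (hzb' : b ⤳ π.base z') (hzw' : π.base z' ⤳ w)
    (hzz : π.base z ⤳ π.base z' ∨ π.base z' ⤳ π.base z) (hz : z ∈ O₁) : z' ∈ O₁ := by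
  haveI : CompactSpace P := QuasiCompact.compactSpace_of_compactSpace π
  haveI : QuasiSeparatedSpace P := quasiSeparatedSpace_of_quasiSeparated π
  haveI : SpectralSpace W := { }
  haveI : SpectralSpace P := { }
  refine side_eq π.isSpectralMap ?_ b w O₁ O₂ h₁ h₂ hcov hdis z z' hzb hzw hzb' hzw' hzz hz
  intro U Zc hU hZc Q₁ Q₂ hQ₁ hQ₂ hsub hd a a' ha ha' haa hQa
  let O : W.Opens := ⟨U, hU⟩
  let J := Scheme.IdealSheafData.vanishingIdeal
    (⟨(Subtype.val : O → W) ⁻¹' Zc, hZc.preimage continuous_subtype_val⟩ : TopologicalSpace.Closeds O.toScheme)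
  have hr : Set.range J.subschemeι.base = (Subtype.val : O → W) ⁻¹' Zc :=
    (Scheme.IdealSheafData.range_subschemeι J).trans
      (Scheme.IdealSheafData.coe_support_vanishingIdeal _)
  let i : J.subscheme ⟶ W := J.subschemeι ≫ O.ι
  have hi : ∀ v, v ∈ U ∩ Zc → ∃ y, i.base y = v := fun v hv => by
    obtain ⟨y, hy⟩ : (⟨v, hv.1⟩ : O) ∈ Set.range J.subschemeι.base := by rw [hr]; exact hv.2
    exact ⟨y, (Scheme.Hom.comp_apply _ _ _).trans (congrArg O.ι.base hy)⟩
  have hi' : ∀ y, i.base y ∈ U ∩ Zc := fun y => by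
    rw [show i.base y = O.ι.base (J.subschemeι.base y) from Scheme.Hom.comp_apply _ _ _]
    have : J.subschemeι.base y ∈ (Subtype.val : O → W) ⁻¹' Zc := hr ▸ ⟨y, rfl⟩
    exact ⟨(J.subschemeι.base y).2, this⟩
  let p := pullback.fst π i
  have hp : ∀ x, π.base (p.base x) = i.base ((pullback.snd π i).base x) := fun x =>
    (Scheme.Hom.comp_apply _ _ _).symm.trans ((congrArg (fun m : pullback π i ⟶ W => m.base x)
      pullback.condition).trans (Scheme.Hom.comp_apply _ _ _))
  have hC : IsClopen (p.base ⁻¹' Q₁) := by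
    refine ⟨⟨?_⟩, hQ₁.preimage p.continuous⟩
    have e : (p.base ⁻¹' Q₁)ᶜ = p.base ⁻¹' Q₂ := by
      ext x
      refine ⟨fun hx => (hsub (show π.base (p.base x) ∈ U ∩ Zc by rw [hp]; exact hi' _)).resolve_left hx,
        fun hx hx' => hd _ (by rw [hp]; exact hi' _) hx' hx⟩
    rw [e]
    exact hQ₂.preimage p.continuous
  obtain ⟨D, hD, hDC⟩ := hcd i p (pullback.snd π i) (IsPullback.of_hasPullback π i) _ hC
  obtain ⟨y, hy⟩ := hi _ ha
  obtain ⟨y', hy'⟩ := hi _ ha'
  obtain ⟨x, hx1, hx2⟩ := Scheme.Pullback.exists_preimage_pullback (f := π) (g := i) a y hy.symm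
  obtain ⟨x', hx1', hx2'⟩ := Scheme.Pullback.exists_preimage_pullback (f := π) (g := i) a' y' hy'.symm
  have hyD : y ∈ D := by
    rw [← hx2]
    exact (Set.ext_iff.1 hDC x).2 (show p.base x ∈ Q₁ from hx1.symm ▸ hQa)
  have hyy : y ⤳ y' ∨ y' ⤳ y := by
    rw [← i.isEmbedding.isInducing.specializes_iff, ← i.isEmbedding.isInducing.specializes_iff, hy, hy']
    exact haa
  have hyD' : y' ∈ D := hyy.elim (fun h => h.mem_closed hD.1 hyD) (fun h => h.mem_open hD.2 hyD)
  have : p.base x' ∈ Q₁ := (Set.ext_iff.1 hDC x').1 (show (pullback.snd π i).base x' ∈ D by rw [hx2']; exact hyD')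
  exact hx1' ▸ this

variable {h : P ⟶ S} (F : EtDesc.Sh S)

/-- near a point where a section differs from a pulled back one, it differs over all specializations -/
theorem exists_open_disagree {W : S.Etale} [IsAffine W.left] (s : F.obj.obj (op W))
    (t : ((EtDesc.pullSh h).obj F).obj.obj (op ((EtCoh.bc h).obj W))) (z : ((EtCoh.bc h).obj W).left)
    (hz : ¬ LocEq ((EtDesc.pullSh h).obj F).obj (up h F W s) t z) :
    ∃ N : Set ((EtCoh.bc h).obj W).left, IsOpen N ∧ z ∈ N ∧ ∀ z' ∈ N,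
      pr h W z ⤳ pr h W z' → ¬ LocEq ((EtDesc.pullSh h).obj F).obj (up h F W s) t z' := by
  obtain ⟨V, m, a, ζ, hζ, hM⟩ := exists_locEq_up' h F t z
  have hsq : ∀ x, m.left (pr h V x) = pr h W (((EtCoh.bc h).map m).left x) := fun x =>
    (Scheme.Hom.comp_apply _ _ _).symm.trans ((congrArg
      (fun q : ((EtCoh.bc h).obj V).left ⟶ W.left => q x) (EtCoh.isPullback_bc_map h m).w.symm).trans
        (Scheme.Hom.comp_apply _ _ _))
  obtain ⟨V₀, hV₀, hv₀, -⟩ := exists_isAffineOpen_mem_and_subset (x := pr h V ζ) (U := (⊤ : V.left.Opens)) trivial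
  haveI : IsAffine V₀.toScheme := hV₀
  haveI : Etale m.left := EtFound.etale_left m
  let μ : V₀.toScheme ⟶ W.left := V₀.ι ≫ m.left
  haveI : LocallyQuasiFinite μ := inferInstance
  haveI : QuasiCompact μ := inferInstance
  let b := pr h W z
  let v : V₀.toScheme := ⟨pr h V ζ, hv₀⟩
  let others : Set V.left := V₀.ι.base '' ((μ.base ⁻¹' {b}) \ {v})
  have hfin : others.Finite := ((μ.finite_preimage_singleton b).sdiff).image _
  let N₂ : Set V.left := (V₀ : Set V.left) ∩ (closure others)ᶜ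
  have hvN : pr h V ζ ∈ N₂ := by
    refine ⟨hv₀, fun hcl => ?_⟩
    rw [← Set.biUnion_of_singleton others, hfin.closure_biUnion] at hcl
    simp only [Set.mem_iUnion] at hcl
    obtain ⟨_, ⟨v', ⟨hv', hne⟩, rfl⟩, hcl⟩ := hcl
    have hsp : v' ⤳ v := V₀.ι.isEmbedding.isInducing.specializes_iff.1 (specializes_iff_mem_closure.2 hcl)
    have hvb : v ∈ μ.base ⁻¹' {b} := by
      show μ.base v = b
      rw [show μ.base v = m.left (V₀.ι.base v) from Scheme.Hom.comp_apply _ _ _]
      exact (hsq ζ).trans (congrArg (pr h W) hζ)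
    haveI : DiscreteTopology (μ.base ⁻¹' {b}) := (μ.isDiscrete_preimage_singleton b).to_subtype
    have : (⟨v', hv'⟩ : μ.base ⁻¹' {b}) ⤳ ⟨v, hvb⟩ :=
      Topology.IsInducing.subtypeVal.specializes_iff.1 hsp
    exact hne (congrArg Subtype.val this.eq)
  let M : Set ((EtCoh.bc h).obj V).left := {x | MatchU h t m a x} ∩ (pr h V).base ⁻¹' N₂
  haveI : Etale ((EtCoh.bc h).map m).left := EtFound.etale_left _
  refine ⟨((EtCoh.bc h).map m).left.base '' M, ((EtCoh.bc h).map m).left.isOpenMap _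
    ((isOpen_locEq _ _).inter ((V₀.2.inter isClosed_closure.isOpen_compl).preimage (pr h V).continuous)),
    ⟨ζ, ⟨hM, hvN⟩, hζ⟩, ?_⟩
  rintro _ ⟨x, ⟨hxM, hxN⟩, rfl⟩ hb hagree
  have e1 : LocEq ((EtDesc.pullSh h).obj F).obj (up h F V (F.obj.map m.op s)) (up h F V a) x := by
    rw [up_map]
    exact ((LocEq.map ((EtCoh.bc h).map m) hagree).trans hxM.symm)
  have e2 : LocEq F.obj (F.obj.map m.op s) a (pr h V x) := locEq_of_up h F e1
  let u : V₀.toScheme := ⟨pr h V x, hxN.1⟩
  have hbu : b ⤳ μ.base u := by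
    rw [show μ.base u = m.left (V₀.ι.base u) from Scheme.Hom.comp_apply _ _ _]
    exact (hsq x).symm ▸ hb
  obtain ⟨v', hv', hv'b⟩ := Flat.generalizingMap μ hbu
  have hsp : V₀.ι.base v' ⤳ pr h V x := hv'.map V₀.ι.continuous
  obtain rfl : v' = v := by
    by_contra hne
    exact hxN.2 (closure_mono (Set.singleton_subset_iff.2 (Set.mem_image_of_mem _ (show v' ∈ (μ.base ⁻¹' {b}) \ {v} from ⟨hv'b, hne⟩)))
      (specializes_iff_mem_closure.1 hsp))
  have e3 : LocEq F.obj (F.obj.map m.op s) a (pr h V ζ) := hsp.mem_open (isOpen_locEq _ _) e2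
  have e4 := (locEq_up h F (z := ζ) e3).trans hM
  rw [up_map] at e4
  exact hz (hζ ▸ LocEq.of_map _ e4)

variable [QuasiCompact h] [QuasiSeparated h]

theorem exists_nbhd_agree (hh : ClopenDesc h) (hs : Function.Surjective h.base) {W : S.Etale} [IsAffine W.left]
    (s : F.obj.obj (op W)) (t : ((EtDesc.pullSh h).obj F).obj.obj (op ((EtCoh.bc h).obj W)))
    (z₀ : ((EtCoh.bc h).obj W).left) (hz₀ : LocEq ((EtDesc.pullSh h).obj F).obj (up h F W s) t z₀) :
    ∃ N : Set W.left, IsOpen N ∧ pr h W z₀ ∈ N ∧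
      ∀ z, pr h W z ∈ N → LocEq ((EtDesc.pullSh h).obj F).obj (up h F W s) t z := by
  let π := pr h W
  haveI : Etale W.hom := W.prop
  haveI : QuasiCompact π := MorphismProperty.pullback_fst (P := @QuasiCompact) W.hom h ‹_›
  haveI : QuasiSeparated π := MorphismProperty.pullback_fst (P := @QuasiSeparated) W.hom h ‹_›
  haveI : Surjective h := ⟨hs⟩
  haveI : Surjective π := MorphismProperty.pullback_fst (P := @Surjective) W.hom h ‹_›
  have hπ : ClopenDesc π := hh.baseChange (IsPullback.of_hasPullback W.hom h).flip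
  let O : Set ((EtCoh.bc h).obj W).left := {z | LocEq ((EtDesc.pullSh h).obj F).obj (up h F W s) t z}
  have hO : IsOpen O := isOpen_locEq _ _
  choose N hNo hzN hN using fun z : {z // z ∉ O} => exists_open_disagree F s t z.1 z.2
  let Off : W.left → Set ((EtCoh.bc h).obj W).left := fun b => ⋃ (z : {z // z ∉ O}) (_ : pr h W z.1 = b), N z
  have hOff : ∀ b, IsOpen (Off b) := fun b => isOpen_iUnion fun z => isOpen_iUnion fun _ => hNo z
  have hOff' : ∀ b z, b ⤳ pr h W z → z ∈ O → z ∈ Off b → False := fun b z hb hzO hzf => by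
    simp only [Off, Set.mem_iUnion] at hzf
    obtain ⟨z', rfl, hz'⟩ := hzf
    exact hN z' z hz' hb hzO
  have hmemOff : ∀ z, z ∉ O → z ∈ Off (pr h W z) := fun z hz =>
    Set.mem_iUnion₂.2 ⟨⟨z, hz⟩, rfl, hzN ⟨z, hz⟩⟩
  -- the fibres are not mixed
  have hfib : ∀ z z', z ∈ O → π.base z = π.base z' → z' ∈ O := fun z z' hz e => by
    refine side_eq_scheme hπ (π.base z) (π.base z) O (Off (π.base z)) hO (hOff _) (fun x hbx hxw => ?_)
      (fun x hbx _ h1 h2 => hOff' _ x hbx h1 h2) z z' specializes_rfl specializes_rfl (e ▸ specializes_rfl)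
      (e ▸ specializes_rfl) (Or.inl (e ▸ specializes_rfl)) hz
    by_cases hx : x ∈ O
    · exact Or.inl hx
    · exact Or.inr ((hbx.antisymm hxw).eq.symm ▸ hmemOff x hx)
  haveI : CompactSpace ((EtCoh.bc h).obj W).left := QuasiCompact.compactSpace_of_compactSpace π
  haveI : QuasiSeparatedSpace ((EtCoh.bc h).obj W).left := quasiSeparatedSpace_of_quasiSeparated π
  haveI : SpectralSpace W.left := { }
  haveI : SpectralSpace ((EtCoh.bc h).obj W).left := { }
  let B : Set W.left := π.base '' Oᶜ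
  have hB : SpecLib.CC B := SpecLib.CC.image π.isSpectralMap (SpecLib.cc_of_isClosed hO.isClosed_compl)
  have hBz : ∀ z, π.base z ∈ B → z ∉ O := fun z ⟨z', hz', e⟩ hz => hz' (hfib z z' hz e.symm)
  have hw : π.base z₀ ∉ closure B := fun hcl => by
    obtain ⟨b₀, hb₀, hb₀w⟩ := hB.exists_specializes hcl
    obtain ⟨b, hbB, hbw, hmax⟩ := exists_maximal_spec hB hb₀ hb₀w
    obtain ⟨zb, hzb⟩ := π.surjective b
    refine hBz zb (hzb.symm ▸ hbB) (side_eq_scheme hπ b (π.base z₀) O (Off b) hO (hOff _) (fun x hbx hxw => ?_)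
      (fun x hbx _ h1 h2 => hOff' _ x hbx h1 h2) z₀ zb hbw specializes_rfl (by rw [hzb])
      (by rw [hzb]; exact hbw) (Or.inr (by rw [hzb]; exact hbw)) hz₀)
    by_cases hx : x ∈ O
    · exact Or.inl hx
    · exact Or.inr ((hmax _ ⟨x, hx, rfl⟩ hbx hxw) ▸ hmemOff x hx)
  exact ⟨(closure B)ᶜ, isClosed_closure.isOpen_compl, hw, fun z hz => by
    by_contra hn
    exact hz (subset_closure ⟨z, hn, rfl⟩)⟩

theorem surjective_up (hh : ClopenDesc h) (hs : Function.Surjective h.base) (U : S.Etale) :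
    Function.Surjective (up h F U) := by
  intro t
  haveI : Surjective h := ⟨hs⟩
  have hloc : ∀ w : U.left, ∃ (V : S.Etale) (m : V ⟶ U) (a : F.obj.obj (op V)),
      w ∈ Set.range m.left.base ∧ up h F V a = ((EtDesc.pullSh h).obj F).obj.map ((EtCoh.bc h).map m).op t := by
    intro w
    haveI : Surjective (pr h U) := MorphismProperty.pullback_fst (P := @Surjective) U.hom h ‹_›
    obtain ⟨z, hz⟩ := (pr h U).surjective w
    obtain ⟨V, m, a, ζ, hζ, hM⟩ := exists_locEq_up' h F t z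
    obtain ⟨V₀, hV₀, hv₀, -⟩ := exists_isAffineOpen_mem_and_subset (x := pr h V ζ) (U := (⊤ : V.left.Opens)) trivial
    haveI : Etale V.hom := V.prop
    let W₁ : S.Etale := Scheme.Etale.mk (V₀.ι ≫ V.hom)
    haveI : IsAffine W₁.left := hV₀
    let j : W₁ ⟶ V := MorphismProperty.Over.homMk V₀.ι rfl
    obtain ⟨z₁, hz₁, hz₁'⟩ := Scheme.exists_preimage_of_isPullback (EtCoh.isPullback_bc_map h j) ζ
      (⟨pr h V ζ, hv₀⟩ : W₁.left) rfl
    let t₁ := ((EtDesc.pullSh h).obj F).obj.map ((EtCoh.bc h).map (j ≫ m)).op t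
    have hag : LocEq ((EtDesc.pullSh h).obj F).obj (up h F W₁ (F.obj.map j.op a)) t₁ z₁ := by
      have hh' : LocEq _ (up h F V a) (((EtDesc.pullSh h).obj F).obj.map ((EtCoh.bc h).map m).op t)
          (((EtCoh.bc h).map j).left z₁) := hz₁.symm ▸ hM
      have := hh'.map ((EtCoh.bc h).map j)
      rw [← up_map, mapF, ← Functor.map_comp] at this
      exact this
    obtain ⟨N, hNo, hwN, hN⟩ := exists_nbhd_agree F hh hs _ t₁ z₁ hag
    let N' : W₁.left.Opens := ⟨N, hNo⟩
    haveI : Etale W₁.hom := W₁.prop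
    let W₀ : S.Etale := Scheme.Etale.mk (N'.ι ≫ W₁.hom)
    let l : W₀ ⟶ W₁ := MorphismProperty.Over.homMk N'.ι rfl
    refine ⟨W₀, l ≫ j ≫ m, F.obj.map (l ≫ j).op a, ⟨⟨pr h W₁ z₁, hwN⟩, ?_⟩, ?_⟩
    · rw [← hz]
      have e1 : j.left (pr h W₁ z₁) = pr h V ζ := by
        rw [← hz₁]
        exact (Scheme.Hom.comp_apply _ _ _).symm.trans ((congrArg
          (fun q : ((EtCoh.bc h).obj W₁).left ⟶ V.left => q z₁) (EtCoh.isPullback_bc_map h j).w.symm).trans
            (Scheme.Hom.comp_apply _ _ _))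
      have e2 : m.left (pr h V ζ) = pr h U z := by
        rw [← hζ]
        exact (Scheme.Hom.comp_apply _ _ _).symm.trans ((congrArg
          (fun q : ((EtCoh.bc h).obj V).left ⟶ U.left => q ζ) (EtCoh.isPullback_bc_map h m).w.symm).trans
            (Scheme.Hom.comp_apply _ _ _))
      show (l.left ≫ j.left ≫ m.left).base _ = _
      rw [Scheme.Hom.comp_apply, Scheme.Hom.comp_apply]
      exact (congrArg m.left e1).trans e2
    · refine eq_of_locEq _ fun x => ?_
      have hx : pr h W₁ (((EtCoh.bc h).map l).left x) ∈ N := by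
        rw [show pr h W₁ (((EtCoh.bc h).map l).left x) = l.left (pr h W₀ x) from
          (Scheme.Hom.comp_apply _ _ _).symm.trans ((congrArg
            (fun q : ((EtCoh.bc h).obj W₀).left ⟶ W₁.left => q x) (EtCoh.isPullback_bc_map h l).w).trans
              (Scheme.Hom.comp_apply _ _ _))]
        exact (pr h W₀ x).2
      have := (hN _ hx).map ((EtCoh.bc h).map l)
      rw [← up_map, mapF, mapF, ← Functor.map_comp] at this
      exact this
  choose V m a hw hma using hloc
  have hinj : ∀ (Y : S.Etale) (x y : F.obj.obj (op Y)), up h F Y x = up h F Y y → x = y := fun Y x y e =>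
    eq_of_locEq F fun v => by
      haveI : Surjective (pr h Y) := MorphismProperty.pullback_fst (P := @Surjective) Y.hom h ‹_›
      obtain ⟨z, rfl⟩ := (pr h Y).surjective v
      exact locEq_of_up h F (e ▸ LocEq.refl _ _)
  have hcomp : ∀ i j (Y : S.Etale) (p : Y ⟶ V i) (q : Y ⟶ V j), p ≫ m i = q ≫ m j →
      F.obj.map p.op (a i) = F.obj.map q.op (a j) := fun i j Y p q e => by
    refine hinj Y _ _ ?_
    rw [up_map, up_map, hma, hma, mapF, mapF, ← Functor.map_comp, ← Functor.map_comp, e]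
  have hcov : Sieve.generate (Presieve.ofArrows V m) ∈ S.smallEtaleTopology U := by
    rw [EtFound.mem_topology_iff]
    intro w
    obtain ⟨v, hv⟩ := hw w
    exact ⟨V w, m w, v, ⟨V w, 𝟙 _, m w, ⟨w⟩, Category.id_comp _⟩, hv⟩
  obtain ⟨s, hs', -⟩ := (Presieve.isSheafFor_arrows_iff _ _).1 ((Presieve.isSheafFor_iff_generate _).2
    (((isSheaf_iff_isSheaf_of_type _ _).1 F.property) _ hcov)) a hcomp
  refine ⟨s, eq_of_locEq _ fun x => ?_⟩
  obtain ⟨v, hv⟩ := hw (pr h U x)
  obtain ⟨x', hx', -⟩ := Scheme.exists_preimage_of_isPullback (EtCoh.isPullback_bc_map h (m (pr h U x))) x v hv.symm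
  refine ⟨_, (EtCoh.bc h).map (m (pr h U x)), ⟨x', hx'⟩, ?_⟩
  rw [← up_map, hs', hma]

theorem isIso_unit (hh : ClopenDesc h) (hs : Function.Surjective h.base) :
    IsIso ((EtDesc.adjSh h).unit.app F) := by
  haveI : Surjective h := ⟨hs⟩
  haveI : (EtDesc.pullSh h).Faithful := EtFound.pullback_faithful h
  haveI : Mono ((EtDesc.adjSh h).unit.app F) := inferInstance
  have : IsIso ((EtDesc.adjSh h).unit.app F).hom := by
    haveI : ∀ U : S.Etaleᵒᵖ, IsIso (((EtDesc.adjSh h).unit.app F).hom.app U) := fun U =>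
      (isIso_iff_bijective _).2 ⟨fun x y e => by
        refine eq_of_locEq F (U := U.unop) fun v => ?_
        haveI : Surjective (pr h U.unop) := MorphismProperty.pullback_fst (P := @Surjective) U.unop.hom h ‹_›
        obtain ⟨z, rfl⟩ := (pr h U.unop).surjective v
        exact locEq_of_up h F (by rw [show up h F U.unop x = up h F U.unop y from e]; exact LocEq.refl _ _),
        surjective_up F hh hs U.unop⟩
    exact NatIso.isIso_of_isIso_app _
  haveI : IsIso ((sheafToPresheaf _ _).map ((EtDesc.adjSh h).unit.app F)) := this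
  exact isIso_of_reflects_iso _ (sheafToPresheaf _ _)

end Groth.Agent.EtDerLib.ZeroAcyc
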