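import Groth.Agent.EtDerLib.ZeroAcyc.StrictFieldConn
import Groth.Agent.ProEtLib.Ring
import Groth.Agent.WEtLib.Stalks
import Groth.Agent.S12237
import Groth.Agent.S0736

/-! # Local rings of fibre products and their strict henselizations -/

set_option autoImplicit false
set_option linter.style.haveILetI false
set_option backward.isDefEq.respectTransparency.types false

universe u

open CategoryTheory CategoryTheory.Limits AlgebraicGeometry
open scoped TensorProduct

noncomputable section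

namespace Groth.Agent.EtDerLib.ZeroAcyc

theorem isPullback_Spec_tensor (O A C : Type u) [CommRing O] [CommRing A] [CommRing C] [Algebra O A] [Algebra O C]
    {Z : Scheme.{u}} (j : Spec (CommRingCat.of O) ⟶ Z) [Mono j] {p : Spec (CommRingCat.of A) ⟶ Z}
    {q : Spec (CommRingCat.of C) ⟶ Z} (hp : Spec.map (CommRingCat.ofHom (algebraMap O A)) ≫ j = p)
    (hq : Spec.map (CommRingCat.ofHom (algebraMap O C)) ≫ j = q) :
    IsPullback (Spec.map (CommRingCat.ofHom (Algebra.TensorProduct.includeLeftRingHom : A →+* A ⊗[O] C)))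
      (Spec.map (CommRingCat.ofHom (Algebra.TensorProduct.includeRight : C →ₐ[O] A ⊗[O] C).toRingHom)) p q := by
  have sq0 : IsPullback (Spec.map (CommRingCat.ofHom (Algebra.TensorProduct.includeLeftRingHom : A →+* A ⊗[O] C)))
      (Spec.map (CommRingCat.ofHom (Algebra.TensorProduct.includeRight : C →ₐ[O] A ⊗[O] C).toRingHom))
      (Spec.map (CommRingCat.ofHom (algebraMap O A))) (Spec.map (CommRingCat.ofHom (algebraMap O C))) :=
    IsPullback.of_iso_pullback ⟨by
      rw [← Spec.map_comp, ← Spec.map_comp]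
      congr 1
      ext o
      exact ((Algebra.TensorProduct.includeRight : C →ₐ[O] A ⊗[O] C).commutes o).symm⟩
      (pullbackSpecIso O A C).symm (pullbackSpecIso_inv_fst O A C) (pullbackSpecIso_inv_snd O A C)
  subst hp hq
  exact IsPullback.of_isLimit' ⟨by rw [← Category.assoc, sq0.w, Category.assoc]⟩ (PullbackCone.IsLimit.mk _
      (fun s => sq0.lift s.fst s.snd ((cancel_mono j).1 (by
        rw [Category.assoc, Category.assoc]; exact s.condition)))
      (fun s => sq0.lift_fst _ _ _) (fun s => sq0.lift_snd _ _ _)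
      fun s m h1 h2 => sq0.hom_ext (h1.trans (sq0.lift_fst _ _ _).symm) (h2.trans (sq0.lift_snd _ _ _).symm))

/-- The local ring of a fibre product is weakly étale over the tensor product of the local rings. -/
theorem weaklyEtale_stalk_pullback {X Y X₁ Y₁ : Scheme.{u}} {g : X ⟶ Y} {b : Y₁ ⟶ Y} {b' : X₁ ⟶ X}
    {g₁ : X₁ ⟶ Y₁} (sq : IsPullback b' g₁ g b) (O A C B : Type u) [CommRing O] [CommRing A] [CommRing C] [CommRing B]
    [Algebra O A] [Algebra O C] [Algebra (A ⊗[O] C) B]
    (jO : Spec (CommRingCat.of O) ⟶ Y) [Mono jO] (jA : Spec (CommRingCat.of A) ⟶ Y₁) [WeaklyEtale jA]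
    (jC : Spec (CommRingCat.of C) ⟶ X) [WeaklyEtale jC] (jB : Spec (CommRingCat.of B) ⟶ X₁) [WeaklyEtale jB]
    (hA : Spec.map (CommRingCat.ofHom (algebraMap O A)) ≫ jO = jA ≫ b)
    (hC : Spec.map (CommRingCat.ofHom (algebraMap O C)) ≫ jO = jC ≫ g)
    (hl : Spec.map (CommRingCat.ofHom ((algebraMap (A ⊗[O] C) B).comp Algebra.TensorProduct.includeLeftRingHom)) ≫ jA =
      jB ≫ g₁)
    (hr : Spec.map (CommRingCat.ofHom ((algebraMap (A ⊗[O] C) B).comp
      (Algebra.TensorProduct.includeRight : C →ₐ[O] A ⊗[O] C).toRingHom)) ≫ jC = jB ≫ b') :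
    Algebra.WeaklyEtale (A ⊗[O] C) B := by
  have sq1 := isPullback_Spec_tensor O A C jO hA hC
  haveI hq : WeaklyEtale (pullback.map (jA ≫ b) (jC ≫ g) b g jA jC (𝟙 Y) (Category.comp_id _) (Category.comp_id _)) :=
    MorphismProperty.pullbackMap (P := @WeaklyEtale) ‹_› ‹_› rfl rfl
  let q : Spec (CommRingCat.of (A ⊗[O] C)) ⟶ X₁ :=
    sq1.isoPullback.hom ≫ pullback.map (jA ≫ b) (jC ≫ g) b g jA jC (𝟙 Y) (Category.comp_id _) (Category.comp_id _) ≫
      sq.flip.isoPullback.inv
  haveI : WeaklyEtale q := by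
    dsimp only [q]
    infer_instance
  let l : Spec (CommRingCat.of B) ⟶ Spec (CommRingCat.of (A ⊗[O] C)) :=
    Spec.map (CommRingCat.ofHom (algebraMap (A ⊗[O] C) B))
  have hlq : l ≫ q = jB := by
    refine sq.hom_ext ?_ ?_
    · simp only [q, Category.assoc, IsPullback.isoPullback_inv_snd, pullback.lift_snd,
        IsPullback.isoPullback_hom_snd_assoc]
      rw [← hr, ← Category.assoc, ← Spec.map_comp]
      rfl
    · simp only [q, Category.assoc, IsPullback.isoPullback_inv_fst, pullback.lift_fst,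
        IsPullback.isoPullback_hom_fst_assoc]
      rw [← hl, ← Category.assoc, ← Spec.map_comp]
      rfl
  haveI : WeaklyEtale (l ≫ q) := hlq ▸ ‹WeaklyEtale jB›
  haveI hlw : WeaklyEtale l := WeaklyEtale.of_comp l q
  have h := (WEtLib.weaklyEtale_Spec_iff (CommRingCat.ofHom (algebraMap (A ⊗[O] C) B))).1 hlw
  rwa [show (CommRingCat.ofHom (algebraMap (A ⊗[O] C) B)).hom.toAlgebra = ‹Algebra (A ⊗[O] C) B› from
    Algebra.algebra_ext _ _ fun _ => rfl] at h

variable (O A C S : Type u) [CommRing O] [CommRing A] [Algebra O A] [CommRing C] [Algebra O C] [CommRing S]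
  [Algebra A S] [Algebra O S] [IsScalarTower O A S]

theorem weaklyEtale_tensor_map [Algebra.WeaklyEtale A S] :
    letI := (Algebra.TensorProduct.map (IsScalarTower.toAlgHom O A S) (AlgHom.id O C)).toRingHom.toAlgebra
    Algebra.WeaklyEtale (A ⊗[O] C) (S ⊗[O] C) := by
  let f := Algebra.TensorProduct.map (IsScalarTower.toAlgHom O A S) (AlgHom.id O C)
  letI := f.toRingHom.toAlgebra
  haveI : IsScalarTower A (A ⊗[O] C) (S ⊗[O] C) := .of_algebraMap_eq fun a => by
    show algebraMap A S a ⊗ₜ[O] (1 : C) = f (a ⊗ₜ 1)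
    simp [f]
  let g : (A ⊗[O] C) ⊗[A] S →ₐ[A ⊗[O] C] S ⊗[O] C := Algebra.TensorProduct.lift (Algebra.ofId _ _)
    ((Algebra.TensorProduct.includeLeft : S →ₐ[A] S ⊗[O] C)) (fun _ _ => Commute.all _ _)
  let g' : S ⊗[O] C →ₐ[O] (A ⊗[O] C) ⊗[A] S := Algebra.TensorProduct.lift
    ((Algebra.TensorProduct.includeRight : S →ₐ[A] (A ⊗[O] C) ⊗[A] S).restrictScalars O)
    (((Algebra.TensorProduct.includeLeft : A ⊗[O] C →ₐ[A] (A ⊗[O] C) ⊗[A] S).restrictScalars O).comp
      Algebra.TensorProduct.includeRight) (fun _ _ => Commute.all _ _)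
  refine weaklyEtale_of_algEquiv (AlgEquiv.ofBijective g ⟨Function.LeftInverse.injective (g := g') fun z => ?_,
    Function.RightInverse.surjective (g := g') fun z => ?_⟩)
  · induction z using TensorProduct.induction_on with
    | zero => simp
    | add u v hu hv => rw [map_add, map_add, hu, hv]
    | tmul t s =>
      induction t using TensorProduct.induction_on with
      | zero => simp
      | add u v hu hv => rw [TensorProduct.add_tmul, map_add, map_add, hu, hv]
      | tmul a c =>
        show g' (f (a ⊗ₜ c) * (s ⊗ₜ 1)) = _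
        simp only [f, Algebra.TensorProduct.map_tmul, AlgHom.id_apply, Algebra.TensorProduct.tmul_mul_tmul, mul_one,
          IsScalarTower.toAlgHom_apply, g', Algebra.TensorProduct.lift_tmul]
        show ((1 : A ⊗[O] C) ⊗ₜ[A] (algebraMap A S a * s)) * (((1 : A) ⊗ₜ[O] c) ⊗ₜ[A] (1 : S)) = _
        rw [Algebra.TensorProduct.tmul_mul_tmul, one_mul, mul_one, ← Algebra.smul_def, TensorProduct.tmul_smul,
          TensorProduct.smul_tmul', TensorProduct.smul_tmul', smul_eq_mul, mul_one]
  · induction z using TensorProduct.induction_on with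
    | zero => simp
    | add u v hu hv => rw [map_add, map_add, hu, hv]
    | tmul s c =>
      show g (((1 : A ⊗[O] C) ⊗ₜ[A] s) * (((1 : A) ⊗ₜ[O] c) ⊗ₜ[A] (1 : S))) = _
      rw [Algebra.TensorProduct.tmul_mul_tmul, one_mul, mul_one, Algebra.TensorProduct.lift_tmul]
      show f ((1 : A) ⊗ₜ c) * (s ⊗ₜ 1) = _
      simp [f]

/-- Composite with a strict henselization of the left factor. -/
theorem weaklyEtale_tensor_cancel (B R : Type u) [CommRing B] [Algebra (A ⊗[O] C) B]
    [Algebra.WeaklyEtale (A ⊗[O] C) B] [CommRing R] [Algebra B R] [Algebra.WeaklyEtale B R]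
    [Algebra.WeaklyEtale A S] (φ : S ⊗[O] C →+* R)
    (hφ : ∀ t, φ (Algebra.TensorProduct.map (IsScalarTower.toAlgHom O A S) (AlgHom.id O C) t) =
      algebraMap B R (algebraMap (A ⊗[O] C) B t)) :
    letI := φ.toAlgebra
    Algebra.WeaklyEtale (S ⊗[O] C) R := by
  letI := φ.toAlgebra
  letI := (Algebra.TensorProduct.map (IsScalarTower.toAlgHom O A S) (AlgHom.id O C)).toRingHom.toAlgebra
  haveI := weaklyEtale_tensor_map O A C S
  letI : Algebra (A ⊗[O] C) R := ((algebraMap B R).comp (algebraMap (A ⊗[O] C) B)).toAlgebra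
  haveI : IsScalarTower (A ⊗[O] C) B R := .of_algebraMap_eq fun _ => rfl
  haveI : IsScalarTower (A ⊗[O] C) (S ⊗[O] C) R := .of_algebraMap_eq fun t => (hφ t).symm
  haveI := Algebra.WeaklyEtale.trans (A ⊗[O] C) B R
  exact WEtLib.cancel (A := A ⊗[O] C) (B := S ⊗[O] C) R

end Groth.Agent.EtDerLib.ZeroAcyc
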