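import Groth.Agent.SpecLib.Basic

/-! # Separating fibres over intervals of specializations -/

set_option autoImplicit false

universe u

open Topology TopologicalSpace Set

namespace Groth.Agent.EtDerLib.ZeroAcyc

variable {P W : Type u} [TopologicalSpace P] [TopologicalSpace W] [SpectralSpace P] [SpectralSpace W]

/-- A property of clopens over locally closed subsets passes to intervals of specializations. -/
theorem side_eq {π : P → W} (hπ : IsSpectralMap π)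
    (H : ∀ U Zc : Set W, IsOpen U → IsClosed Zc → ∀ Q₁ Q₂ : Set P, IsOpen Q₁ → IsOpen Q₂ →
      π ⁻¹' (U ∩ Zc) ⊆ Q₁ ∪ Q₂ → (∀ z, π z ∈ U ∩ Zc → z ∈ Q₁ → z ∈ Q₂ → False) →
      ∀ z z', π z ∈ U ∩ Zc → π z' ∈ U ∩ Zc → (π z ⤳ π z' ∨ π z' ⤳ π z) → z ∈ Q₁ → z' ∈ Q₁)
    (b w : W) (O₁ O₂ : Set P) (h₁ : IsOpen O₁) (h₂ : IsOpen O₂)
    (hcov : ∀ z, b ⤳ π z → π z ⤳ w → z ∈ O₁ ∨ z ∈ O₂)
    (hdis : ∀ z, b ⤳ π z → π z ⤳ w → z ∈ O₁ → z ∈ O₂ → False)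
    (z z' : P) (hzb : b ⤳ π z) (hzw : π z ⤳ w) (hzb' : b ⤳ π z') (hzw' : π z' ⤳ w)
    (hzz : π z ⤳ π z' ∨ π z' ⤳ π z) (hz : z ∈ O₁) : z' ∈ O₁ := by
  let Z : Set W := closure {b} ∩ ⋂₀ {U | IsOpen U ∧ IsCompact U ∧ w ∈ U}
  have hZmem : ∀ v, v ∈ Z ↔ b ⤳ v ∧ v ⤳ w := fun v => by
    constructor
    · exact fun hv => ⟨specializes_iff_mem_closure.2 hv.1,
        SpecLib.specializes_of_forall_qc fun U h1 h2 h3 => hv.2 U ⟨h1, h2, h3⟩⟩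
    · exact fun hv => ⟨specializes_iff_mem_closure.1 hv.1, fun U hU => hv.2.mem_open hU.1 hU.2.2⟩
  have hZ : SpecLib.CC Z := (SpecLib.cc_of_isClosed isClosed_closure).inter
    (SpecLib.CC.sInter fun U hU => SpecLib.cc_of_isOpen_isCompact hU.1 hU.2.1)
  -- replace the open sets by quasi-compact ones
  have hcl₁ : SpecLib.CC ((π ⁻¹' Z) ∩ O₁) := by
    have e : (π ⁻¹' Z) ∩ O₁ = (π ⁻¹' Z) ∩ O₂ᶜ := by
      ext x
      refine ⟨fun hx => ⟨hx.1, fun h => ?_⟩, fun hx => ⟨hx.1, ?_⟩⟩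
      · obtain ⟨a, c⟩ := (hZmem _).1 hx.1; exact hdis x a c hx.2 h
      · obtain ⟨a, c⟩ := (hZmem _).1 hx.1; exact (hcov x a c).resolve_right hx.2
    rw [e]
    exact (SpecLib.CC.preimage hπ hZ).inter (SpecLib.cc_of_isClosed h₂.isClosed_compl)
  have hcl₂ : SpecLib.CC ((π ⁻¹' Z) ∩ O₂) := by
    have e : (π ⁻¹' Z) ∩ O₂ = (π ⁻¹' Z) ∩ O₁ᶜ := by
      ext x
      refine ⟨fun hx => ⟨hx.1, fun h => ?_⟩, fun hx => ⟨hx.1, ?_⟩⟩
      · obtain ⟨a, c⟩ := (hZmem _).1 hx.1; exact hdis x a c h hx.2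
      · obtain ⟨a, c⟩ := (hZmem _).1 hx.1; exact (hcov x a c).resolve_left hx.2
    rw [e]
    exact (SpecLib.CC.preimage hπ hZ).inter (SpecLib.cc_of_isClosed h₁.isClosed_compl)
  have hqc : ∀ (K O : Set P), IsCompact K → K ⊆ O → IsOpen O →
      ∃ Q, IsOpen Q ∧ IsCompact Q ∧ K ⊆ Q ∧ Q ⊆ O := by
    intro K O hK hKO hO
    choose V hV using fun x : K => SpecLib.exists_qc (hKO x.2) hO
    obtain ⟨t, ht⟩ := hK.elim_finite_subcover V (fun x => (hV x).1) fun x hx =>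
      mem_iUnion.2 ⟨⟨x, hx⟩, (hV ⟨x, hx⟩).2.2.1⟩
    exact ⟨⋃ x ∈ t, V x, isOpen_biUnion fun x _ => (hV x).1, t.isCompact_biUnion fun x _ => (hV x).2.1, ht,
      iUnion₂_subset fun x _ => (hV x).2.2.2⟩
  obtain ⟨Q₁, hQ₁o, hQ₁c, hQ₁K, hQ₁O⟩ := hqc _ O₁ hcl₁.isCompact inter_subset_right h₁
  obtain ⟨Q₂, hQ₂o, hQ₂c, hQ₂K, hQ₂O⟩ := hqc _ O₂ hcl₂.isCompact inter_subset_right h₂
  let Bad : Set P := (Q₁ ∪ Q₂)ᶜ ∪ (Q₁ ∩ Q₂)
  have hBad : SpecLib.CC Bad := (SpecLib.cc_of_isClosed (hQ₁o.union hQ₂o).isClosed_compl).union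
    ((SpecLib.cc_of_isOpen_isCompact hQ₁o hQ₁c).inter (SpecLib.cc_of_isOpen_isCompact hQ₂o hQ₂c))
  let ι := {p : Set W × Set W // IsOpen p.1 ∧ IsCompact p.1 ∧ w ∈ p.1 ∧ IsOpen p.2 ∧ IsCompact p.2 ∧ b ∉ p.2}
  haveI : Nonempty ι := ⟨⟨(univ, ∅), isOpen_univ, isCompact_univ, trivial, isOpen_empty, isCompact_empty, id⟩⟩
  have hex : ∃ p : ι, ∀ x, π x ∈ p.1.1 ∩ p.1.2ᶜ → x ∉ Bad := by
    by_contra hne
    push Not at hne
    obtain ⟨x, hx⟩ := SpecLib.CC.nonempty_iInter (fun p : ι => π ⁻¹' (p.1.1 ∩ p.1.2ᶜ) ∩ Bad)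
      (fun p q => ⟨⟨(p.1.1 ∩ q.1.1, p.1.2 ∪ q.1.2), p.2.1.inter q.2.1,
        QuasiSeparatedSpace.inter_isCompact _ _ p.2.1 p.2.2.1 q.2.1 q.2.2.1, ⟨p.2.2.2.1, q.2.2.2.1⟩,
        p.2.2.2.2.1.union q.2.2.2.2.1, p.2.2.2.2.2.1.union q.2.2.2.2.2.1,
        fun h => h.elim p.2.2.2.2.2.2 q.2.2.2.2.2.2⟩,
        fun x hx => ⟨⟨hx.1.1.1, fun h => hx.1.2 (Or.inl h)⟩, hx.2⟩,
        fun x hx => ⟨⟨hx.1.1.2, fun h => hx.1.2 (Or.inr h)⟩, hx.2⟩⟩)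
      (fun p => by obtain ⟨x, h1, h2⟩ := hne p; exact ⟨x, h1, h2⟩)
      (fun p => (SpecLib.CC.preimage hπ ((SpecLib.cc_of_isOpen_isCompact p.2.1 p.2.2.1).inter
        (SpecLib.cc_of_isClosed p.2.2.2.2.1.isClosed_compl))).inter hBad)
    rw [mem_iInter] at hx
    have hxw : π x ⤳ w := SpecLib.specializes_of_forall_qc fun U h1 h2 h3 =>
      (hx ⟨(U, ∅), h1, h2, h3, isOpen_empty, isCompact_empty, id⟩).1.1
    have hbx : b ⤳ π x := SpecLib.specializes_of_forall_qc fun U h1 h2 h3 => by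
      by_contra hb
      exact (hx ⟨(univ, U), isOpen_univ, isCompact_univ, trivial, h1, h2, hb⟩).1.2 h3
    have hxZ : π x ∈ Z := (hZmem _).2 ⟨hbx, hxw⟩
    rcases (hx (Classical.arbitrary ι)).2 with hB | hB
    · exact hB ((hcov x hbx hxw).imp (fun h => hQ₁K ⟨hxZ, h⟩) fun h => hQ₂K ⟨hxZ, h⟩)
    · exact hdis x hbx hxw (hQ₁O hB.1) (hQ₂O hB.2)
  obtain ⟨⟨⟨U, Q⟩, hUo, hUc, hwU, hQo, hQc, hbQ⟩, hgood⟩ := hex
  have hmem : ∀ v, b ⤳ v → v ⤳ w → v ∈ U ∩ Qᶜ := fun v h1 h2 =>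
    ⟨h2.mem_open hUo hwU, fun h => hbQ (h1.mem_open hQo h)⟩
  refine hQ₁O (H U Qᶜ hUo hQo.isClosed_compl Q₁ Q₂ hQ₁o hQ₂o (fun x hx => ?_) (fun x hx h h' => ?_) z z'
    (hmem _ hzb hzw) (hmem _ hzb' hzw') hzz (hQ₁K ⟨(hZmem _).2 ⟨hzb, hzw⟩, hz⟩))
  · by_contra h
    exact hgood x hx (Or.inl h)
  · exact hgood x hx (Or.inr ⟨h, h'⟩)

/-- A point of a constructibly closed set that is maximal among those generalizing `w` and specializing `b₀`. -/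
theorem exists_maximal_spec [T0Space W] {B : Set W} (hB : SpecLib.CC B) {b₀ w : W} (hb₀ : b₀ ∈ B) (hw : b₀ ⤳ w) :
    ∃ b ∈ B, b ⤳ w ∧ ∀ b' ∈ B, b ⤳ b' → b' ⤳ w → b' = b := by
  classical
  let S := {b : W // b ∈ B ∧ b ⤳ w}
  haveI : Nonempty S := ⟨⟨b₀, hb₀, hw⟩⟩
  obtain ⟨m, hm⟩ := exists_maximal_of_nonempty_chains_bounded (r := fun a c : S => a.1 ⤳ c.1)
    (fun c hc hne => by
      let gen : Set W := ⋂₀ {U | IsOpen U ∧ IsCompact U ∧ w ∈ U}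
      haveI : Nonempty c := hne.to_subtype
      obtain ⟨y, hy⟩ := SpecLib.CC.nonempty_iInter (fun a : c => closure {a.1.1} ∩ (B ∩ gen))
        (fun a a' => by
          rcases eq_or_ne a.1 a'.1 with h | h
          · obtain rfl : a = a' := Subtype.ext h
            exact ⟨a, subset_rfl, subset_rfl⟩
          rcases hc a.2 a'.2 h with h | h
          · exact ⟨a', inter_subset_inter_left _ (closure_minimal (by
              rintro _ rfl; exact specializes_iff_mem_closure.1 h) isClosed_closure), subset_rfl⟩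
          · exact ⟨a, subset_rfl, inter_subset_inter_left _ (closure_minimal (by
              rintro _ rfl; exact specializes_iff_mem_closure.1 h) isClosed_closure)⟩)
        (fun a => ⟨a.1.1, subset_closure rfl, a.1.2.1, fun U hU => a.1.2.2.mem_open hU.1 hU.2.2⟩)
        (fun a => (SpecLib.cc_of_isClosed isClosed_closure).inter
          (hB.inter (SpecLib.CC.sInter fun U hU => SpecLib.cc_of_isOpen_isCompact hU.1 hU.2.1)))
      rw [mem_iInter] at hy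
      exact ⟨⟨y, (hy (Classical.arbitrary c)).2.1,
        SpecLib.specializes_of_forall_qc fun U h1 h2 h3 => (hy (Classical.arbitrary c)).2.2 U ⟨h1, h2, h3⟩⟩,
        fun a ha => specializes_iff_mem_closure.2 (hy ⟨a, ha⟩).1⟩)
    (fun {a b c} hab hbc => hab.trans hbc)
  exact ⟨m.1, m.2.1, m.2.2, fun b' hb' h1 h2 => ((hm ⟨b', hb', h2⟩ h1).antisymm h1).eq⟩

end Groth.Agent.EtDerLib.ZeroAcyc
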